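import Cfsg.Agent.H830.A6.Normal

/-!
# `6.A₆` in dimension six: the new element `G` (helper830)

`G` permutes the three tensor coordinates. `(X G)² = -1`, `G` commutes with `I`, `J`, and it is an isometry of every
nondegenerate sesquilinear form fixed by the generators.
-/

set_option autoImplicit false
set_option linter.unusedSectionVars false

open Module

namespace Cfsg.Agent.H830.A6

section mat

variable {F : Type*} [Field F]

/-- the matrix of `G` -/
def MG : Matrix (Fin 6) (Fin 6) F :=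
  !![0, 1, 0, 0, 0, 0; 0, 0, 1, 0, 0, 0; 1, 0, 0, 0, 0, 0; 0, 0, 0, 0, 1, 0; 0, 0, 0, 0, 0, 1; 0, 0, 0, 1, 0, 0]

theorem MG3 : (MG * MG * MG : Matrix (Fin 6) (Fin 6) F) = 1 := by
  ext i j
  fin_cases i <;> fin_cases j <;> simp [MG, Matrix.mul_apply, Fin.sum_univ_six]

theorem MG_I : (MG * MI : Matrix (Fin 6) (Fin 6) F) = MI * MG := by
  ext i j
  fin_cases i <;> fin_cases j <;> simp [MG, MI, Matrix.mul_apply, Fin.sum_univ_six]

theorem MG_J (w : F) : (MG * MJ w : Matrix (Fin 6) (Fin 6) F) = MJ w * MG := by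
  ext i j
  fin_cases i <;> fin_cases j <;> simp [MG, MJ, Matrix.mul_apply, Fin.sum_univ_six]

theorem det_MG : (MG : Matrix (Fin 6) (Fin 6) F).det = 1 := by
  have h1 : (MG : Matrix (Fin 6) (Fin 6) F) = (Equiv.Perm.permMatrix F (c[0, 1, 2] * c[3, 4, 5] : Equiv.Perm (Fin 6))) := by
    ext i j
    fin_cases i <;> fin_cases j <;> simp [MG, Equiv.Perm.permMatrix, PEquiv.toMatrix_apply, Equiv.toPEquiv_apply] <;> decide
  rw [h1, Matrix.det_permutation]
  have : Equiv.Perm.sign (c[0, 1, 2] * c[3, 4, 5] : Equiv.Perm (Fin 6)) = 1 := by decide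
  rw [this]; simp

theorem XG {w p z : F} (hw : w * w + w + 1 = 0) (hp : 6 * p * p = -1) (hz : 2 * z = 1) :
    MX w p z * MG * (MX w p z * MG) = -1 := by
  have hw3 : w * w * w = 1 := by linear_combination (w - 1) * hw
  have e : MX w p z * MG = !![-(2 * p), 0, 0, 0, -(2 * (w * w) * p), 0; 0, p, 0, 0, 0, w * w * (1 - 2 * p);
      0, 0, p, -(w * w * (1 + 2 * p)), 0, 0; 0, 0, z * w * (1 - 2 * p), -p, 0, 0; -(w * p), 0, 0, 0, 2 * p, 0;
      0, -(z * w * (1 + 2 * p)), 0, 0, 0, -p] := by
    ext i j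
    fin_cases i <;> fin_cases j <;> simp [MG, MX, Matrix.mul_apply, Fin.sum_univ_six]
  rw [e]
  have q1 : 2 * p * (2 * p) + 2 * (w * w) * p * (w * p) = -1 := by
    linear_combination hp + (2 * p ^ 2) * hw3
  have q2 : p * p + -(w * w * (1 - 2 * p) * (z * w * (1 + 2 * p))) = -1 := by
    linear_combination (-z * (1 - 4 * p ^ 2)) * hw3 + (-p ^ 2 - 1) * hz + z * hp
  ext i j
  fin_cases i <;> fin_cases j <;> simp [Matrix.mul_apply, Fin.sum_univ_six] <;> first
    | linear_combination q1
    | linear_combination q2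
    | ring

end mat

section form

variable {F : Type*} [Field F] {V : Type*} [AddCommGroup V] [Module F V] {w : F} {I J K B D X : End F V}

/-- a nondegenerate sesquilinear form -/
structure Ses (σ : F →+* F) (f : V → V → F) : Prop where
  al : ∀ u u' v, f (u + u') v = f u v + f u' v
  sl : ∀ (c : F) u v, f (c • u) v = c * f u v
  ar : ∀ u v v', f u (v + v') = f u v + f u v'
  sr : ∀ (c : F) u v, f u (c • v) = σ c * f u v
  nd : ∀ u, (∀ v, f u v = 0) → u = 0

variable {σ : F →+* F} {f : V → V → F}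

theorem Ses.zl (h : Ses σ f) (v : V) : f 0 v = 0 := by
  have := h.sl 0 0 v
  rwa [zero_smul, zero_mul] at this

theorem Ses.zr (h : Ses σ f) (u : V) : f u 0 = 0 := by
  have := h.sr 0 u 0
  rwa [zero_smul, map_zero, zero_mul] at this

theorem Ses.nl (h : Ses σ f) (u v : V) : f (-u) v = -f u v := by
  have := h.sl (-1) u v
  rwa [neg_one_smul, neg_one_mul] at this

theorem Ses.nr (h : Ses σ f) (u v : V) : f u (-v) = -f u v := by
  have := h.sr (-1) u v
  rwa [neg_one_smul, map_neg, map_one, neg_one_mul] at this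

theorem Ses.suml (h : Ses σ f) {κ : Type*} (s : Finset κ) (g : κ → V) (v : V) : f (∑ i ∈ s, g i) v = ∑ i ∈ s, f (g i) v := by
  classical
  induction s using Finset.induction_on with
  | empty => rw [Finset.sum_empty, Finset.sum_empty, h.zl]
  | insert a s ha ih => rw [Finset.sum_insert ha, Finset.sum_insert ha, h.al, ih]

theorem Ses.sumr (h : Ses σ f) {κ : Type*} (s : Finset κ) (g : κ → V) (u : V) : f u (∑ i ∈ s, g i) = ∑ i ∈ s, f u (g i) := by
  classical
  induction s using Finset.induction_on with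
  | empty => rw [Finset.sum_empty, Finset.sum_empty, h.zr]
  | insert a s ha ih => rw [Finset.sum_insert ha, Finset.sum_insert ha, h.ar, ih]

/-- an isometry -/
def Iso (f : V → V → F) (T : End F V) : Prop := ∀ u v, f (T u) (T v) = f u v

theorem Ses.iso_of_basis (h : Ses σ f) (b : Basis (Fin 6) F V) {T : End F V}
    (hT : ∀ i j, f (T (b i)) (T (b j)) = f (b i) (b j)) : Iso f T := by
  intro u v
  rw [← b.sum_repr u, ← b.sum_repr v, map_sum, map_sum, h.suml, h.suml]
  refine Finset.sum_congr rfl fun i _ => ?_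
  rw [h.sumr, h.sumr]
  refine Finset.sum_congr rfl fun j _ => ?_
  rw [map_smul, map_smul, h.sl, h.sl, h.sr, h.sr, hT]

/-- skew-adjointness of `N` -/
theorem Ses.skew (h : Ses σ f) (hI : Iso f I) (hII : I * I = -1) (u v : V) : f (I u) v = -f u (I v) := by
  have h1 := hI (I u) v
  have h2 : I (I u) = -u := by
    have : I (I u) = (I * I) u := rfl
    rw [this, hII]; rfl
  rw [h2, h.nl] at h1
  exact h1.symm

theorem mat_vec {T : End F V} (b : Basis (Fin 6) F V) {M : Matrix (Fin 6) (Fin 6) F}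
    (h : LinearMap.toMatrixAlgEquiv b T = M) (j : Fin 6) : T (b j) = ∑ i, M i j • b i := by
  rw [← h]
  conv_lhs => rw [← b.sum_repr (T (b j))]
  refine Finset.sum_congr rfl fun i _ => ?_
  rw [LinearMap.toMatrixAlgEquiv_apply]

/-- **The key computation.** -/
theorem norms (h2 : (2 : F) ≠ 0) (h3 : (3 : F) ≠ 0) {p z ρ n0 n : F} (hn0 : n0 ≠ 0)
    (hp : 6 * p * p = -1) (hz : 2 * z = 1) (hρ : ρ = p ∨ ρ = -p)
    (e1 : p * ρ * n + z * z * (1 - 2 * p) * (1 - 2 * ρ) * (2 * n0) = n)
    (e5 : (1 + 2 * p) * (1 + 2 * ρ) * n + p * ρ * (2 * n0) = 2 * n) : n0 = n := by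
  rcases hρ with rfl | rfl
  · exfalso
    -- `n0 = (12 p - 5) n` and `7 n = (1 - 12 p) n0`
    have k1 : n0 = (12 * ρ - 5) * n := by linear_combination -3 * e5 + (2 * n + n0) * hp
    have k2 : 7 * n = (1 - 12 * ρ) * n0 := by
      linear_combination (-6) * e1 + (n + 2 * n0) * hp + 3 * (2 * z + 1) * (1 - 2 * ρ) * (1 - 2 * ρ) * n0 * hz
    have hn : n ≠ 0 := by
      rintro rfl
      apply hn0
      rw [k1, mul_zero]
    have k3 : (6 * ρ + 1) * n = 0 := by
      have : (2 * 2 * 3 : F) * ((6 * ρ + 1) * n) = 0 := by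
        rw [k1] at k2
        linear_combination -k2 + 24 * n * hp
      rcases mul_eq_zero.1 this with h | h
      · exact absurd h (mul_ne_zero (mul_ne_zero h2 h2) h3)
      · exact h
    have k4 : 6 * ρ = -1 := by
      rcases mul_eq_zero.1 k3 with h | h
      · linear_combination h
      · exact absurd h hn
    have k5 : (7 : F) = 0 := by linear_combination 6 * hp - (6 * ρ - 1) * k4
    apply hn0
    rw [k1]
    linear_combination (2 * n) * k4 - n * k5
  · linear_combination 3 * e5 + (2 * n + n0) * hp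

/-- **`G` is an isometry.** -/
theorem iso_G (hf : Ses σ f) (h : Rel w I J K B D X) (h2 : (2 : F) ≠ 0) (h3 : (3 : F) ≠ 0) {z p δ : F}
    (hz : 2 * z = 1) (hp : 6 * p * p = -1) {b : Basis (Fin 6) F V} (he : Eig w I J K B b)
    (mI : (2 * w + 1) • LinearMap.toMatrixAlgEquiv b I = MI)
    (mD : LinearMap.toMatrixAlgEquiv b D = MD w δ)
    (mX : LinearMap.toMatrixAlgEquiv b X = MX w p z)
    (hσw : σ w = w * w) (hI : Iso f I) (hJ : Iso f J) (hK : Iso f K) (hB : Iso f B) (hD : Iso f D) (hX : Iso f X)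
    {G : End F V} (mG : LinearMap.toMatrixAlgEquiv b G = MG) : Iso f G := by
  have hw := h.hw
  have hw3 := h.w3
  have hθ := h.th
  -- vectors
  have vI := mat_vec b ((map_smul (LinearMap.toMatrixAlgEquiv b) (2 * w + 1) I).trans mI)
  have vD := mat_vec b mD
  have vX := mat_vec b mX
  have vG := mat_vec b mG
  simp only [LinearMap.smul_apply, Fin.sum_univ_six] at vI vD vX vG
  have I0 := vI 0
  have I1 := vI 1
  have I2 := vI 2
  have D0 := vD 0
  have D1 := vD 1
  have X1 := vX 1
  have X5 := vX 5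
  have G0 := vG 0
  have G1 := vG 1
  have G2 := vG 2
  have G3 := vG 3
  have G4 := vG 4
  have G5 := vG 5
  simp [MI] at I0 I1 I2
  simp [MD] at D0 D1
  simp [MX] at X1 X5
  simp [MG] at G0 G1 G2 G3 G4 G5
  clear vI vD vX vG
  -- orthogonality
  have hN : ∀ u v, f ((I + J + K) u) v = -f u ((I + J + K) v) := by
    intro u v
    have e1 : (I + J + K) u = I u + J u + K u := rfl
    have e2 : (I + J + K) v = I v + J v + K v := rfl
    rw [e1, e2, hf.al, hf.al, hf.ar, hf.ar, hf.skew hI h.II, hf.skew hJ h.JJ, hf.skew hK h.KK]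
    ring
  have hσν : ∀ j, σ (nuv w j) = -nuv w j := by
    have hσθ : σ (2 * w + 1) = -(2 * w + 1) := by
      rw [map_add, map_mul, map_one, hσw, map_ofNat]
      linear_combination 2 * hw
    intro j
    fin_cases j
    · exact hσθ
    · exact hσθ
    · exact hσθ
    · change σ (-(2 * w + 1)) = -(-(2 * w + 1)); rw [map_neg, hσθ]
    · change σ (-(2 * w + 1)) = -(-(2 * w + 1)); rw [map_neg, hσθ]
    · change σ (-(2 * w + 1)) = -(-(2 * w + 1)); rw [map_neg, hσθ]
  have hσl : ∀ j, σ (lav w j) * lav w j = 1 := by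
    intro j
    fin_cases j
    · change σ (w * w) * (w * w) = 1
      rw [map_mul, hσw]
      linear_combination (w * w * w + 1) * hw3
    · change σ 1 * 1 = 1
      rw [map_one, mul_one]
    · change σ w * w = 1
      rw [hσw, hw3]
    · change σ w * w = 1
      rw [hσw, hw3]
    · change σ (w * w) * (w * w) = 1
      rw [map_mul, hσw]
      linear_combination (w * w * w + 1) * hw3
    · change σ 1 * 1 = 1
      rw [map_one, mul_one]
  have horth : ∀ i j, i ≠ j → f (b i) (b j) = 0 := by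
    intro i j hij
    have e1 := hN (b i) (b j)
    rw [he.N, he.N, hf.sl, hf.sr, hσν] at e1
    have e2 := hB (b i) (b j)
    rw [he.B, he.B, hf.sl, hf.sr] at e2
    have e3 : lav w i * f (b i) (b j) = lav w j * f (b i) (b j) := by
      linear_combination (lav w j) * e2 - (lav w i * f (b i) (b j)) * hσl j
    have e4 : (lav w i * nuv w i - lav w j * nuv w j) * f (b i) (b j) = 0 := by
      linear_combination (lav w i) * e1 + (nuv w j) * e3
    rcases mul_eq_zero.1 e4 with h4 | h4
    · exact absurd (mu_inj hw h2 h3 (sub_eq_zero.1 h4)) hij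
    · exact h4
  -- norms
  have half : ∀ u u' : V, (2 * w + 1) • I u = -u + u' → f u u' = 0 → f u' u = 0 → f u' u' = 2 * f u u := by
    intro u u' hu h0 h0'
    have e1 : f ((2 * w + 1) • I u) ((2 * w + 1) • I u) = 3 * f u u := by
      rw [hf.sl, hf.sr, hI]
      have : σ (2 * w + 1) = -(2 * w + 1) := hσν 0
      rw [this]
      linear_combination (-f u u) * hθ
    rw [hu, hf.al, hf.ar, hf.ar, hf.nl, hf.nl, hf.nr, hf.nr, h0, h0'] at e1
    linear_combination e1
  have n3 : f (b 3) (b 3) = 2 * f (b 0) (b 0) :=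
    half _ _ I0 (horth 0 3 (by decide)) (horth 3 0 (by decide))
  have n4 : f (b 4) (b 4) = 2 * f (b 1) (b 1) :=
    half _ _ I1 (horth 1 4 (by decide)) (horth 4 1 (by decide))
  have n5 : f (b 5) (b 5) = 2 * f (b 2) (b 2) :=
    half _ _ I2 (horth 2 5 (by decide)) (horth 5 2 (by decide))
  have hn0 : f (b 0) (b 0) ≠ 0 := by
    intro h0
    refine he.ne 0 (hf.nd _ fun v => ?_)
    rw [← b.sum_repr v, hf.sumr]
    refine Finset.sum_eq_zero fun j _ => ?_
    rw [hf.sr]
    by_cases hj : j = 0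
    · rw [hj, h0, mul_zero]
    · rw [horth 0 j (Ne.symm hj), mul_zero]
  have hδδ : 2 * δ * σ δ = 1 := by
    have e1 := hD (b 0) (b 0)
    rw [D0, hf.sl, hf.sr, n3] at e1
    have e2 : (2 * δ * σ δ - 1) * f (b 0) (b 0) = 0 := by linear_combination e1
    rcases mul_eq_zero.1 e2 with h4 | h4
    · linear_combination h4
    · exact absurd h4 hn0
  have n1 : f (b 1) (b 1) = f (b 2) (b 2) := by
    have e1 := hD (b 1) (b 1)
    rw [D1, hf.sl, hf.sr, n5] at e1
    linear_combination -e1 + f (b 2) (b 2) * hδδ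
  have hσz : σ z = z := by
    have e1 : (2 : F) * (σ z - z) = 0 := by
      have := congrArg σ hz
      rw [map_mul, map_ofNat, map_one] at this
      linear_combination this - hz
    rcases mul_eq_zero.1 e1 with h4 | h4
    · exact absurd h4 h2
    · linear_combination h4
  have hσp : σ p = p ∨ σ p = -p := by
    have e1 := congrArg σ hp
    rw [map_mul, map_mul, map_ofNat, map_neg, map_one] at e1
    have e2 : (2 * 3 : F) * ((σ p - p) * (σ p + p)) = 0 := by linear_combination e1 - hp
    rcases mul_eq_zero.1 e2 with h4 | h4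
    · exact absurd h4 (mul_ne_zero h2 h3)
    · rcases mul_eq_zero.1 h4 with h5 | h5
      · left; linear_combination h5
      · right; linear_combination h5
  have k1 : p * σ p * f (b 2) (b 2) + z * z * (1 - 2 * p) * (1 - 2 * σ p) * (2 * f (b 0) (b 0)) = f (b 2) (b 2) := by
    have e1 := hX (b 1) (b 1)
    rw [X1, hf.al, hf.ar, hf.ar, hf.sl, hf.sl, hf.sl, hf.sl, hf.sr, hf.sr, hf.sr, hf.sr, horth 2 3 (by decide),
      horth 3 2 (by decide), n3, n1] at e1
    simp only [map_mul, map_sub, map_one, map_ofNat, hσz, hσw, mul_zero, add_zero, zero_add] at e1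
    linear_combination e1 - (z * z * (1 - 2 * p) * (1 - 2 * σ p) * (2 * f (b 0) (b 0))) * hw3
  have k5 : (1 + 2 * p) * (1 + 2 * σ p) * f (b 2) (b 2) + p * σ p * (2 * f (b 0) (b 0)) = 2 * f (b 2) (b 2) := by
    have e1 := hX (b 5) (b 5)
    rw [X5, hf.al, hf.ar, hf.ar, hf.nl, hf.nl, hf.nl, hf.nl, hf.nr, hf.nr, hf.nr, hf.nr, hf.sl, hf.sl, hf.sl, hf.sl,
      hf.sr, hf.sr, hf.sr, hf.sr, horth 2 3 (by decide),
      horth 3 2 (by decide), n3, n5] at e1
    simp only [map_mul, map_add, map_one, map_ofNat, hσw, mul_zero, add_zero, zero_add, neg_neg, neg_zero] at e1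
    linear_combination e1 - ((1 + 2 * p) * (1 + 2 * σ p) * f (b 2) (b 2) * (w * w * w + 1)) * hw3
  have n0 := norms h2 h3 hn0 hp hz hσp k1 k5
  -- the conclusion
  have hG : ∀ i, G (b i) = b ((![2, 0, 1, 5, 3, 4] : Fin 6 → Fin 6) i) := by
    intro i
    fin_cases i
    · exact G0
    · exact G1
    · exact G2
    · exact G3
    · exact G4
    · exact G5
  have hinj : Function.Injective (![2, 0, 1, 5, 3, 4] : Fin 6 → Fin 6) := by decide
  have hnorm : ∀ i, f (b ((![2, 0, 1, 5, 3, 4] : Fin 6 → Fin 6) i)) (b ((![2, 0, 1, 5, 3, 4] : Fin 6 → Fin 6) i)) =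
      f (b i) (b i) := by
    intro i
    fin_cases i
    · exact n0.symm
    · exact n0.trans n1.symm
    · exact n1
    · exact (n5.trans (by rw [n0])).trans n3.symm
    · exact (n3.trans (by rw [n0, n1])).trans n4.symm
    · exact (n4.trans (by rw [n1])).trans n5.symm
  refine hf.iso_of_basis b fun i j => ?_
  rw [hG, hG]
  by_cases hij : i = j
  · rw [hij]; exact hnorm j
  · rw [horth i j hij, horth _ _ fun h => hij (hinj h)]

end form

end Cfsg.Agent.H830.A6
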