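import Cfsg.Agent.H830.A6.Core2
import Cfsg.Agent.H830.A6.Unit

/-!
# `6.A₆` in dimension six: the new element as a matrix (helper830)
-/

set_option autoImplicit false
set_option linter.unusedSectionVars false
set_option linter.dupNamespace false

open Equiv Equiv.Perm Module

namespace Cfsg.Agent.H830.A6

open Cfsg Cfsg.Geo Matrix Cfsg.Agent.H915.LD Cfsg.Agent.H913.N6

universe u

variable {F : Type u} [Field F] {P : Subgroup (GL (Fin 6) F)}

/-- the action as an endomorphism -/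
noncomputable def rho (x : GL (Fin 6) F) : End F (Fin 6 → F) :=
  Matrix.toLinAlgEquiv' (x : Matrix (Fin 6) (Fin 6) F)

theorem rho_mul (x y : GL (Fin 6) F) : rho (x * y) = rho x * rho y := by
  unfold rho
  rw [Units.val_mul, map_mul]

theorem rho_one : rho (1 : GL (Fin 6) F) = 1 := by
  unfold rho
  rw [Units.val_one, map_one]

theorem rho_neg (x : GL (Fin 6) F) : rho (-x) = -rho x := by
  unfold rho
  rw [Units.val_neg, map_neg]

theorem rho_sc (c : Fˣ) : rho (sc c : GL (Fin 6) F) = (c : F) • 1 := by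
  unfold rho
  rw [coe_sc, map_smul, map_one]

theorem rho_inj {x y : GL (Fin 6) F} (h : rho x = rho y) : x = y :=
  Units.ext (Matrix.toLinAlgEquiv'.injective h)

theorem rho_apply (x : GL (Fin 6) F) (v : Fin 6 → F) : rho x v = (x : Matrix (Fin 6) (Fin 6) F) *ᵥ v := by
  unfold rho
  rw [Matrix.toLinAlgEquiv'_apply]

theorem rel_of_lft {π : P →* A6} {m z i j k b d x : P} (h : Cov6.Lft π m z i j k b d x) (hm : (m : GL (Fin 6) F) = -1)
    {w : Fˣ} (hz : (z : GL (Fin 6) F) = sc w) :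
    Rel (w : F) (rho (i : GL (Fin 6) F)) (rho (j : GL (Fin 6) F)) (rho (k : GL (Fin 6) F)) (rho (b : GL (Fin 6) F))
      (rho (d : GL (Fin 6) F)) (rho (x : GL (Fin 6) F)) := by
  have rm : ∀ {s t : P}, s = t → rho (s : GL (Fin 6) F) = rho (t : GL (Fin 6) F) := fun hst => by rw [hst]
  have r1 : rho ((1 : P) : GL (Fin 6) F) = 1 := rho_one
  have rmm : rho (m : GL (Fin 6) F) = -1 := by rw [hm, rho_neg, rho_one]
  have hw1 : w ≠ 1 := by
    rintro rfl
    apply h.z1
    apply Subtype.ext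
    rw [hz, sc_one, Subgroup.coe_one]
  have hw3 : w * w * w = 1 := by
    apply sc_inj (ι := Fin 6)
    rw [H913.N6.sc_mul, H913.N6.sc_mul, ← hz, sc_one]
    exact congrArg (fun y : P => (y : GL (Fin 6) F)) h.z3
  refine ⟨?_, ?_, ?_, ?_, ?_, ?_, ?_, ?_, ?_, ?_, ?_, ?_, ?_, ?_, ?_⟩
  · have h3 : ((w : F) - 1) * ((w : F) * w + w + 1) = 0 := by
      have := congrArg (fun y : Fˣ => (y : F)) hw3
      simp only [Units.val_mul, Units.val_one] at this
      linear_combination this
    rcases mul_eq_zero.1 h3 with h4 | h4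
    · exact absurd (Units.ext (by rw [Units.val_one]; linear_combination h4)) hw1
    · exact h4
  · rw [← rmm, ← rho_mul]; exact rm h.ii
  · rw [← rmm, ← rho_mul]; exact rm h.jj
  · rw [← rho_mul]; exact rm h.ij
  · rw [← neg_one_mul (rho (k : GL (Fin 6) F)), ← rmm, ← rho_mul, ← rho_mul]; exact rm h.ji
  · rw [← rho_mul, ← rho_mul]; exact rm h.bi
  · rw [← rho_mul, ← rho_mul]; exact rm h.bj
  · rw [← r1, ← rho_mul, ← rho_mul]; exact rm h.bbb
  · rw [← r1, ← rho_mul, ← rho_mul]; exact rm h.xxx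
  · rw [← rho_mul, ← rho_mul, ← one_mul (rho ((x : GL (Fin 6) F) * (b : GL (Fin 6) F))), ← smul_mul_assoc, ← rho_sc,
      ← hz, ← rho_mul]
    exact rm h.bx
  · rw [← rmm, ← rho_mul]; exact rm h.dd
  · rw [← rho_mul, ← neg_one_mul (rho (j : GL (Fin 6) F) * _), ← rmm, ← rho_mul, ← rho_mul]; exact rm h.di
  · simp only [← rho_mul]; exact rm h.db
  · simp only [← rho_mul]; exact rm h.dx
  · rw [← rmm]; simp only [← rho_mul]; exact rm h.xk

theorem three_ne {w : F} (hw : w * w + w + 1 = 0) (hw1 : w ≠ 1) : (3 : F) ≠ 0 := by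
  intro h3
  have h : (w - 1) * (w - 1) = 0 := by linear_combination hw - w * h3
  rcases mul_self_eq_zero.1 h with h4
  exact hw1 (by linear_combination h4)

/-- the Hermitian form is sesquilinear -/
theorem ses_herm {q : ℕ} {σ : F →+* F} (hσ : ∀ x, σ x = x ^ q) : Ses σ (hermForm 6 F q) := by
  unfold hermForm
  refine ⟨?_, ?_, ?_, ?_, ?_⟩
  · intro u u' v
    rw [← Finset.sum_add_distrib]
    exact Finset.sum_congr rfl fun i _ => by rw [Pi.add_apply, add_mul]
  · intro c u v
    rw [Finset.mul_sum]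
    exact Finset.sum_congr rfl fun i _ => by rw [Pi.smul_apply, smul_eq_mul, mul_assoc]
  · intro u v v'
    rw [← Finset.sum_add_distrib]
    exact Finset.sum_congr rfl fun i _ => by rw [Pi.add_apply, ← hσ, map_add, hσ, hσ, mul_add]
  · intro c u v
    rw [Finset.mul_sum]
    exact Finset.sum_congr rfl fun i _ => by rw [Pi.smul_apply, smul_eq_mul, hσ c, mul_pow]; ring
  · intro u hu
    funext i
    have := hu (Pi.single i 1)
    rw [Finset.sum_eq_single i] at this
    · rw [Pi.single_eq_same, one_pow, mul_one] at this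
      exact this
    · intro k _ hk
      rw [Pi.single_eq_of_ne hk, ← hσ, map_zero, mul_zero]
    · intro h; exact absurd (Finset.mem_univ i) h

theorem exists_sigma [Fintype F] {q : ℕ} (hF : Fintype.card F = q ^ 2) : ∃ σ : F →+* F, ∀ x, σ x = x ^ q := by
  obtain ⟨p, hp⟩ := CharP.exists F
  obtain ⟨n, hpp, hn⟩ := FiniteField.card F p
  have : Fact p.Prime := ⟨hpp⟩
  have h1 : q ∣ p ^ (n : ℕ) := by
    rw [← hn, hF, pow_two]
    exact dvd_mul_right q q
  obtain ⟨k, _, rfl⟩ := (Nat.dvd_prime_pow hpp).1 h1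
  exact ⟨iterateFrobenius F p k, fun x => iterateFrobenius_def p k x⟩

theorem iso_iff {q : ℕ} {x : GL (Fin 6) F} : Iso (hermForm 6 F q) (rho x) ↔ x ∈ GU 6 F q := by
  constructor
  · intro h u v
    have := h u v
    rw [rho_apply, rho_apply] at this
    exact this
  · intro h u v
    rw [rho_apply, rho_apply]
    exact h u v

/-- **The new element.** -/
theorem exists_g [Finite F] (hC : Core P) (hn : Nat.card ((scalars (Fin 6) F).subgroupOf P) = 6) (C : Cov P A6) :
    ∃ (m z i j k b d x : P) (w : Fˣ) (g : GL (Fin 6) F), Cov6 C.π m ∧ Cov6.Lft C.π m z i j k b d x ∧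
      (m : GL (Fin 6) F) = -1 ∧ (z : GL (Fin 6) F) = sc w ∧ ((w : F) * w + w + 1 = 0) ∧
      (2 : F) ≠ 0 ∧ (3 : F) ≠ 0 ∧
      g * g * g = 1 ∧ g * i = i * g ∧ g * j = j * g ∧ (x * g) * (x * g) = -1 ∧
      Matrix.GeneralLinearGroup.det g = 1 ∧ g ∉ scalars (Fin 6) F ∧
      (∀ q : ℕ, Nat.card F = q ^ 2 → P ≤ GU 6 F q → g ∈ GU 6 F q) := by
  obtain ⟨hm, h2⟩ := neg_mem (P := P) (by rw [hn]; norm_num)
  have h6 := cov6 C hC hn hm
  obtain ⟨z, i, j, k, b, d, x, hL⟩ := h6.exists_lft
  obtain ⟨w, hz⟩ := exists_sc' C hL.πz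
  have hR := rel_of_lft hL rfl hz
  have hw1 : (w : F) ≠ 1 := by
    intro h
    have hw1 : w = 1 := Units.ext h
    apply hL.z1
    apply Subtype.ext
    rw [hz, hw1, sc_one, Subgroup.coe_one]
  have h3 := three_ne hR.hw hw1
  have hhalf : 2 * (2⁻¹ : F) = 1 := mul_inv_cancel₀ h2
  obtain ⟨bs, p, δ, he, hp, hδ, mI, mJ, mK, mB, mD, mX⟩ := normal_form hR h2 h3 (by simp) hhalf
  -- the matrix
  obtain ⟨G, hG⟩ : ∃ G : End F (Fin 6 → F), LinearMap.toMatrixAlgEquiv bs G = MG :=
    ⟨(LinearMap.toMatrixAlgEquiv bs).symm MG, (LinearMap.toMatrixAlgEquiv bs).apply_symm_apply MG⟩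
  have hinj : Function.Injective (LinearMap.toMatrixAlgEquiv bs) := (LinearMap.toMatrixAlgEquiv bs).injective
  have G3 : G * G * G = 1 := by
    apply hinj
    rw [map_mul, map_mul, hG, MG3, map_one]
  obtain ⟨M, hM⟩ : ∃ M : Matrix (Fin 6) (Fin 6) F, Matrix.toLinAlgEquiv' M = G :=
    ⟨_, Matrix.toLinAlgEquiv'.apply_symm_apply G⟩
  have M3 : M * M * M = 1 := by
    apply Matrix.toLinAlgEquiv'.injective
    rw [map_mul, map_mul, hM, G3, map_one]
  let g : GL (Fin 6) F := ⟨M, M * M, by rw [← mul_assoc, M3], M3⟩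
  have hg : rho g = G := hM
  have hth : (2 * (w : F) + 1) ≠ 0 := by
    intro h
    apply h3
    have := hR.th
    rw [h] at this
    linear_combination this
  have comm : ∀ (T : End F (Fin 6 → F)) (N : Matrix (Fin 6) (Fin 6) F),
      (2 * (w : F) + 1) • LinearMap.toMatrixAlgEquiv bs T = N → MG * N = N * MG → G * T = T * G := by
    intro T N hT hN
    apply hinj
    rw [map_mul, map_mul, hG]
    have h4 : (2 * (w : F) + 1) • (MG * LinearMap.toMatrixAlgEquiv bs T) =
        (2 * (w : F) + 1) • (LinearMap.toMatrixAlgEquiv bs T * MG) := by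
      rw [← Matrix.mul_smul, ← Matrix.smul_mul, hT, hN]
    exact smul_right_injective _ hth h4
  refine ⟨⟨-1, hm⟩, z, i, j, k, b, d, x, w, g, h6, hL, rfl, hz, hR.hw, h2, h3, ?_, ?_, ?_, ?_, ?_, ?_, ?_⟩
  · apply rho_inj
    rw [rho_mul, rho_mul, hg, G3, rho_one]
  · apply rho_inj
    rw [rho_mul, rho_mul, hg]
    exact comm _ _ mI MG_I
  · apply rho_inj
    rw [rho_mul, rho_mul, hg]
    exact comm _ _ mJ (MG_J _)
  · apply rho_inj
    rw [rho_mul, rho_mul, hg, rho_neg, rho_one]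
    apply hinj
    rw [map_mul, map_mul, mX, hG, XG hR.hw hp hhalf, map_neg, map_one]
  · apply Units.ext
    rw [Units.val_one, Matrix.GeneralLinearGroup.val_det_apply, show (g : Matrix (Fin 6) (Fin 6) F) = M from rfl]
    have h4 : LinearMap.toMatrixAlgEquiv' G = M := by
      rw [← hM]; exact Matrix.toLinAlgEquiv'.symm_apply_apply M
    rw [← h4, show LinearMap.toMatrixAlgEquiv' G = LinearMap.toMatrix' G from rfl, LinearMap.det_toMatrix',
      ← LinearMap.det_toMatrix bs]
    exact (congrArg Matrix.det hG).trans det_MG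
  · intro hs
    obtain ⟨c, hc⟩ := mem_scalars.1 hs
    have h4 : G = (c : F) • 1 := by rw [← hg, hc, rho_sc]
    rw [h4, map_smul, map_one] at hG
    have h5 := congrFun (congrFun hG 0) 1
    simp [MG] at h5
  · intro q hq hU
    have : Fintype F := Fintype.ofFinite F
    rw [Nat.card_eq_fintype_card] at hq
    obtain ⟨σ, hσ⟩ := exists_sigma hq
    rw [← iso_iff, hg]
    have hf := ses_herm hσ
    have hI : ∀ y : P, Iso (hermForm 6 F q) (rho (y : GL (Fin 6) F)) := fun y => iso_iff.2 (hU y.2)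
    refine iso_G hf hR h2 h3 hhalf hp he mI mD mX ?_ (hI i) (hI j) (hI k) (hI b) (hI d) (hI x) hG
    -- `σ w = w²`
    have h4 := hI z
    rw [hz, rho_sc] at h4
    have h5 := h4 (Pi.single 0 1) (Pi.single 0 1)
    have h6 : hermForm 6 F q (Pi.single 0 1) (Pi.single 0 1) = 1 := by
      unfold hermForm
      rw [Finset.sum_eq_single 0]
      · simp
      · intro k _ hk
        rw [Pi.single_eq_of_ne hk, zero_mul]
      · intro h; exact absurd (Finset.mem_univ _) h
    rw [LinearMap.smul_apply, Module.End.one_apply, hf.sl, hf.sr, h6, mul_one] at h5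
    have h7 : (w : F) * w * w = 1 := hR.w3
    linear_combination ((w : F) * w) * h5 - σ w * h7
end Cfsg.Agent.H830.A6
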