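import Cfsg.Agent.Lib.AltCarmichael
import Cfsg.Agent.H830.A6.Rep

/-!
# `6.A₆` in dimension six: the overgroup `6.A₇` (helper830)
-/

set_option autoImplicit false
set_option linter.unusedSectionVars false
set_option linter.dupNamespace false

open Equiv Equiv.Perm Module

namespace Cfsg.Agent.H830.A6

open Cfsg Cfsg.Geo Matrix Cfsg.Agent.H915.LD Cfsg.Agent.H913.N6 Cfsg.Agent.Lib

universe u

variable {F : Type u} [Field F] {P : Subgroup (GL (Fin 6) F)}

/-! ### The diagonal matrices with entries `±1` -/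

/-- the sign as a field element -/
def sg (F : Type u) [Field F] : ℤˣ →* Fˣ := Units.map (Int.castRingHom F).toMonoidHom

theorem sg_sq (s : ℤˣ) : (sg F s : F) * (sg F s : F) = 1 := by
  rcases Int.units_eq_one_or s with rfl | rfl <;> simp [sg]

/-- the diagonal entries -/
def dvec (s : Fin 4 → ℤˣ) : Fin 6 → ℤˣ := ![s 0, s 1, s 2, s 3, s 0 * s 1 * s 2 * s 3, 1]

theorem dvec_mul (s t : Fin 4 → ℤˣ) (i : Fin 6) : dvec (s * t) i = dvec s i * dvec t i := by
  fin_cases i <;> simp [dvec]
  ac_rfl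

/-- the diagonal matrix -/
def dg (F : Type u) [Field F] : (Fin 4 → ℤˣ) →* GL (Fin 6) F :=
  MonoidHom.mk' (fun s => ⟨Matrix.diagonal fun i => (sg F (dvec s i) : F), Matrix.diagonal fun i => (sg F (dvec s i) : F),
    by rw [Matrix.diagonal_mul_diagonal]; simp only [sg_sq]; exact Matrix.diagonal_one,
    by rw [Matrix.diagonal_mul_diagonal]; simp only [sg_sq]; exact Matrix.diagonal_one⟩) (by
    intro s t
    apply Units.ext
    rw [Units.val_mul]
    change Matrix.diagonal _ = Matrix.diagonal _ * Matrix.diagonal _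
    rw [Matrix.diagonal_mul_diagonal]
    congr 1
    funext i
    rw [dvec_mul, map_mul, Units.val_mul])

theorem coe_dg (s : Fin 4 → ℤˣ) : (dg F s : Matrix (Fin 6) (Fin 6) F) = Matrix.diagonal fun i => (sg F (dvec s i) : F) := rfl

theorem det_dg (s : Fin 4 → ℤˣ) : Matrix.GeneralLinearGroup.det (dg F s) = 1 := by
  apply Units.ext
  rw [Units.val_one, Matrix.GeneralLinearGroup.val_det_apply, coe_dg, Matrix.det_diagonal, Fin.prod_univ_six]
  simp only [← Units.val_mul, ← map_mul]
  have : dvec s 0 * dvec s 1 * dvec s 2 * dvec s 3 * dvec s 4 * dvec s 5 = 1 := by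
    simp [dvec, Int.units_mul_self]
  rw [this, map_one, Units.val_one]

theorem dg_mem_GU {q : ℕ} (hq : Odd q) (s : Fin 4 → ℤˣ) : dg F s ∈ GU 6 F q := by
  intro u v
  change hermForm 6 F q ((dg F s : Matrix (Fin 6) (Fin 6) F) *ᵥ u) ((dg F s : Matrix (Fin 6) (Fin 6) F) *ᵥ v) = _
  rw [coe_dg]
  unfold hermForm
  refine Finset.sum_congr rfl fun i _ => ?_
  rw [Matrix.mulVec_diagonal, Matrix.mulVec_diagonal, mul_pow]
  have h1 : (sg F (dvec s i) : F) ^ q = (sg F (dvec s i) : F) := by
    obtain ⟨k, rfl⟩ := hq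
    rw [pow_succ, pow_mul, pow_two, sg_sq, one_pow, one_mul]
  rw [h1]
  linear_combination (u i * v i ^ q) * sg_sq (F := F) (dvec s i)

theorem dg_scalar (h2 : (2 : F) ≠ 0) {s : Fin 4 → ℤˣ} (hs : dg F s ∈ scalars (Fin 6) F) : s = 1 := by
  obtain ⟨c, hc⟩ := mem_scalars.1 hs
  have h1 : ∀ i, (sg F (dvec s i) : F) = c := by
    intro i
    have h3 := congrArg (fun g : GL (Fin 6) F => (g : Matrix (Fin 6) (Fin 6) F) i i) hc
    simp only [coe_dg, coe_sc, Matrix.diagonal_apply_eq, Matrix.smul_apply, Matrix.one_apply_eq, smul_eq_mul,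
      mul_one] at h3
    exact h3
  have hinj : Function.Injective (sg F) := by
    rw [injective_iff_map_eq_one]
    intro t ht
    rcases Int.units_eq_one_or t with rfl | rfl
    · rfl
    · exfalso
      have h4 := congrArg (fun y : Fˣ => (y : F)) ht
      simp [sg] at h4
      apply h2
      linear_combination -h4
  have h3 : ∀ i, dvec s i = 1 := by
    intro i
    apply hinj
    apply Units.ext
    rw [h1 i, ← h1 5]
    rfl
  funext i
  fin_cases i
  · exact h3 0
  · exact h3 1
  · exact h3 2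
  · exact h3 3

/-! ### The overgroup -/

theorem card_A7 : Nat.card (alternatingGroup (Fin 7)) = 2520 := by
  have h3 := nat_card_alternatingGroup (α := Fin 7)
  rw [Nat.card_eq_fintype_card (α := Fin 7), Fintype.card_fin] at h3
  rw [h3]
  rfl

/-- projective space of the group -/
abbrev PG (F : Type u) [Field F] := GL (Fin 6) F ⧸ scalars (Fin 6) F

/-- the quotient map -/
abbrev mk (F : Type u) [Field F] : GL (Fin 6) F →* PG F := QuotientGroup.mk' (scalars (Fin 6) F)

theorem mk_one {x : GL (Fin 6) F} : mk F x = 1 ↔ x ∈ scalars (Fin 6) F := by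
  rw [← MonoidHom.mem_ker, QuotientGroup.ker_mk']

theorem cyc_eq : px = ⟨AltCarmichael.cyc 4 0, AltCarmichael.cyc_mem 4 0 (by norm_num)⟩ ∧
    pi' * px * pi'⁻¹ = ⟨AltCarmichael.cyc 4 1, AltCarmichael.cyc_mem 4 1 (by norm_num)⟩ ∧
    pj * px * pj⁻¹ = ⟨AltCarmichael.cyc 4 2, AltCarmichael.cyc_mem 4 2 (by norm_num)⟩ ∧
    pk * px * pk⁻¹ = ⟨AltCarmichael.cyc 4 3, AltCarmichael.cyc_mem 4 3 (by norm_num)⟩ := by
  decide +kernel

/-- the generators in the projective group -/
def gens (F : Type u) [Field F] (i j k x g : GL (Fin 6) F) : ℕ → PG F := fun n =>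
  if n = 0 then mk F x else if n = 1 then mk F (i * x * i⁻¹) else if n = 2 then mk F (j * x * j⁻¹) else
    if n = 3 then mk F (k * x * k⁻¹) else mk F g

theorem sq_swap {G : Type*} [Group G] {a b : G} (h : (a * b) ^ 2 = 1) : (b * a) ^ 2 = 1 := AltCarmichael.swap_rel h

theorem exists_over [Finite F] (C : Cov P A6) {m z i j k b d x : P} {g : GL (Fin 6) F} (hL : Cov6.Lft C.π m z i j k b d x)
    (h2 : (2 : F) ≠ 0) (g3 : g * g * g = 1) (gi : g * i = i * g) (gj : g * j = j * g)
    (xg : (x * g) * (x * g) = -1) :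
    ∃ W : Subgroup (GL (Fin 6) F), scalars (Fin 6) F ≤ W ∧ P ≤ W ∧ g ∈ W ∧ ¬ ∀ s, dg F s ∈ W := by
  classical
  -- relations
  have hP : ∀ s : P, C.π s = 1 → mk F (s : GL (Fin 6) F) = 1 := fun s hs => mk_one.2 ((C.ker s).1 hs)
  have gk : g * k = k * g := by
    have h := congrArg (fun y : P => (y : GL (Fin 6) F)) hL.ij
    simp only [Subgroup.coe_mul] at h
    rw [← h, ← mul_assoc, gi, mul_assoc, gj, mul_assoc]
  have hneg : mk F (-1 : GL (Fin 6) F) = 1 := by
    rw [mk_one, ← sc_neg_one]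
    exact sc_mem_scalars _
  have hg3 : mk F g ^ 3 = 1 := by
    rw [← map_pow, pow_succ, pow_two, g3, map_one]
  have hgx : ∀ t : P, g * t = t * g → (mk F (t * x * (t : GL (Fin 6) F)⁻¹) * mk F g) ^ 2 = 1 := by
    intro t ht
    have h1 : (t : GL (Fin 6) F)⁻¹ * g = g * (t : GL (Fin 6) F)⁻¹ := by
      rw [inv_mul_eq_iff_eq_mul, ← mul_assoc, ← ht, mul_inv_cancel_right]
    have h3 : (t * x * (t : GL (Fin 6) F)⁻¹) * g = t * (x * g) * (t : GL (Fin 6) F)⁻¹ := by
      rw [mul_assoc _ _ g, h1]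
      simp only [mul_assoc]
    rw [← map_mul, ← map_pow, h3, conj_pow, pow_two, xg, map_mul, map_mul, hneg, mul_one, ← map_mul,
      mul_inv_cancel, map_one]
  have hrel : AltCarmichael.Rel 5 (gens F i j k x g) := by
    have c3 : ∀ t : P, mk F (t * x * (t : GL (Fin 6) F)⁻¹) ^ 3 = 1 := by
      intro t
      rw [← map_pow, conj_pow]
      have : ((x : GL (Fin 6) F)) ^ 3 = 1 := by
        have h := congrArg (fun y : P => (y : GL (Fin 6) F)) hL.xxx
        simp only [Subgroup.coe_mul, Subgroup.coe_one] at h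
        rw [pow_succ, pow_two, h]
      rw [this, mul_one, mul_inv_cancel, map_one]
    have hx1 : mk F ((x : GL (Fin 6) F)) = mk F ((1 : P) * x * ((1 : P) : GL (Fin 6) F)⁻¹) := by
      rw [Subgroup.coe_one, inv_one, one_mul, mul_one]
    have h22 : ∀ s t : P, C.π ((s * x * s⁻¹) * (t * x * t⁻¹)) ^ 2 = 1 →
        (mk F (s * x * (s : GL (Fin 6) F)⁻¹) * mk F (t * x * (t : GL (Fin 6) F)⁻¹)) ^ 2 = 1 := by
      intro s t hst
      rw [← map_pow] at hst
      have := hP _ hst
      rw [← map_mul, ← map_pow]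
      exact this
    have π0 : C.π ((1 : P) * x * (1 : P)⁻¹) = px := by rw [inv_one, one_mul, mul_one, hL.πx]
    have πi : C.π (i * x * i⁻¹) = pi' * px * pi'⁻¹ := by rw [map_mul, map_mul, map_inv, hL.πi, hL.πx]
    have πj : C.π (j * x * j⁻¹) = pj * px * pj⁻¹ := by rw [map_mul, map_mul, map_inv, hL.πj, hL.πx]
    have πk : C.π (k * x * k⁻¹) = pk * px * pk⁻¹ := by rw [map_mul, map_mul, map_inv, hL.πk, hL.πx]
    have hg1 : g * ((1 : P) : GL (Fin 6) F) = ((1 : P) : GL (Fin 6) F) * g := by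
      rw [Subgroup.coe_one, one_mul, mul_one]
    constructor
    · intro n hn
      interval_cases n
      · change mk F _ ^ 3 = 1
        rw [hx1]; exact c3 1
      · exact c3 i
      · exact c3 j
      · exact c3 k
      · exact hg3
    · intro a ha c hc hac
      wlog hlt : a < c generalizing a c with H
      · exact sq_swap (H c hc a ha (Ne.symm hac) (by omega))
      interval_cases c
      · omega
      · obtain rfl : a = 0 := by omega
        change (mk F _ * mk F _) ^ 2 = 1
        rw [hx1]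
        exact h22 1 i (by rw [map_mul, π0, πi]; decide +kernel)
      · interval_cases a
        · change (mk F _ * mk F _) ^ 2 = 1
          rw [hx1]
          exact h22 1 j (by rw [map_mul, π0, πj]; decide +kernel)
        · exact h22 i j (by rw [map_mul, πi, πj]; decide +kernel)
      · interval_cases a
        · change (mk F _ * mk F _) ^ 2 = 1
          rw [hx1]
          exact h22 1 k (by rw [map_mul, π0, πk]; decide +kernel)
        · exact h22 i k (by rw [map_mul, πi, πk]; decide +kernel)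
        · exact h22 j k (by rw [map_mul, πj, πk]; decide +kernel)
      · interval_cases a
        · change (mk F _ * mk F _) ^ 2 = 1
          rw [hx1]
          exact hgx 1 hg1
        · exact hgx i gi
        · exact hgx j gj
        · exact hgx k gk
  refine ⟨(AltCarmichael.gen 5 (gens F i j k x g)).comap (mk F), ?_, ?_, ?_, ?_⟩
  · intro y hy
    rw [Subgroup.mem_comap, mk_one.2 hy]
    exact one_mem _
  · -- `P ≤ W`
    obtain ⟨c0, c1, c2, c3⟩ := cyc_eq
    let S : Subgroup P := ((AltCarmichael.gen 5 (gens F i j k x g)).comap (mk F)).subgroupOf P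
    have h3 : AltCarmichael.gen 4 (AltCarmichael.cyc 4) ≤ (S.map C.π).map (alternatingGroup (Fin 6)).subtype := by
      rw [AltCarmichael.gen_def, Subgroup.closure_le]
      rintro _ ⟨n, hn, rfl⟩
      interval_cases n
      · refine ⟨_, ⟨x, ?_, hL.πx⟩, by rw [c0]; rfl⟩
        exact AltCarmichael.mem_gen (x := gens F i j k x g) (i := 0) (by norm_num)
      · refine ⟨_, ⟨i * x * i⁻¹, ?_, by rw [map_mul, map_mul, map_inv, hL.πi, hL.πx, c1]⟩, rfl⟩
        exact AltCarmichael.mem_gen (x := gens F i j k x g) (i := 1) (by norm_num)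
      · refine ⟨_, ⟨j * x * j⁻¹, ?_, by rw [map_mul, map_mul, map_inv, hL.πj, hL.πx, c2]⟩, rfl⟩
        exact AltCarmichael.mem_gen (x := gens F i j k x g) (i := 2) (by norm_num)
      · refine ⟨_, ⟨k * x * k⁻¹, ?_, by rw [map_mul, map_mul, map_inv, hL.πk, hL.πx, c3]⟩, rfl⟩
        exact AltCarmichael.mem_gen (x := gens F i j k x g) (i := 3) (by norm_num)
    intro s hs
    have h0 : ((C.π ⟨s, hs⟩ : A6) : Perm (Fin 6)) ∈ AltCarmichael.gen 4 (AltCarmichael.cyc 4) := by
      rw [AltCarmichael.gen_cyc 4 (by norm_num)]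
      exact (C.π ⟨s, hs⟩).2
    obtain ⟨_, ⟨t, ht, rfl⟩, htt⟩ := h3 h0
    have h4 : C.π t = C.π ⟨s, hs⟩ := Subtype.ext htt
    have h5 : C.π (⟨s, hs⟩ * t⁻¹) = 1 := by rw [map_mul, map_inv, h4, mul_inv_cancel]
    have h6 := hP _ h5
    have h7 : mk F s = mk F (t : GL (Fin 6) F) := by
      rw [Subgroup.coe_mul, map_mul, Subgroup.coe_inv, map_inv, mul_inv_eq_one] at h6
      exact h6
    rw [Subgroup.mem_comap, h7]
    exact ht
  · exact AltCarmichael.mem_gen (x := gens F i j k x g) (i := 4) (by norm_num)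
  · intro hall
    obtain ⟨φ, hφ⟩ := AltCarmichael.exists_hom (by norm_num) hrel
    have h3 : AltCarmichael.gen 5 (gens F i j k x g) ≤ φ.range := by
      rw [AltCarmichael.gen_def, Subgroup.closure_le]
      rintro _ ⟨n, hn, rfl⟩
      exact ⟨_, hφ n hn⟩
    let f : (Fin 4 → ℤˣ) →* φ.range :=
      ((mk F).comp (dg F)).codRestrict φ.range fun s => h3 (hall s)
    have hf : Function.Injective f := by
      rw [injective_iff_map_eq_one]
      intro s hs
      apply dg_scalar h2
      rw [← mk_one]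
      exact congrArg Subtype.val hs
    have h4 : Nat.card (Fin 4 → ℤˣ) ∣ Nat.card φ.range := Subgroup.card_dvd_of_injective f hf
    have h5 : Nat.card φ.range ∣ Nat.card (alternatingGroup (Fin (5 + 2))) := Subgroup.card_range_dvd φ
    have h6 : Nat.card (Fin 4 → ℤˣ) = 16 := by
      rw [Nat.card_eq_fintype_card]; rfl
    have h7 := h4.trans h5
    rw [h6, show (5 + 2 : ℕ) = 7 from rfl, card_A7] at h7
    revert h7
    decide

end Cfsg.Agent.H830.A6
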