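import Cfsg.Agent.StdAlt.Six.Aut
import Cfsg.Agent.OddHalf.D5.SixAut.Theta
import Cfsg.Agent.H830.A6.Over

/-!
# `6.A₆` in dimension six: no outer automorphism is induced (helper830)
-/

set_option autoImplicit false
set_option linter.unusedSectionVars false
set_option linter.dupNamespace false

open Equiv Equiv.Perm

namespace Cfsg.Agent.H830.A6

open Cfsg Cfsg.Geo Matrix Cfsg.Agent.H915.LD Cfsg.Agent.H913.N6
open Cfsg.Agent.StdAlt.Six (NS ns_of_three three_iff cube_cases mv_conj t0)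
open Cfsg.Agent.OddHalf.D5.SixAut (θ θ_θ sign_θ)

def e6 : A6 := ⟨c[0, 1, 2], mem_alternatingGroup.2 (by decide)⟩

/-- `θ` on `A₆`. -/
def thA : MulAut A6 where
  toFun x := ⟨θ x, mem_alternatingGroup.2 (by rw [sign_θ]; exact x.2)⟩
  invFun x := ⟨θ x, mem_alternatingGroup.2 (by rw [sign_θ]; exact x.2)⟩
  left_inv x := Subtype.ext (θ_θ _)
  right_inv x := Subtype.ext (θ_θ _)
  map_mul' x y := Subtype.ext (map_mul θ _ _)

theorem thA_coe (x : A6) : (thA x : Perm (Fin 6)) = θ x := rfl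

/-- Automorphisms of `A₆` not induced by permutations. -/
theorem eq_theta {α : MulAut A6} (h : ¬ NS α) :
    ∃ τ : Perm (Fin 6), ∀ x : A6, (α x : Perm (Fin 6)) = τ * θ x * τ⁻¹ := by
  have h3 : (e6 : Perm (Fin 6)).IsThreeCycle := by
    rw [← three_iff]; decide +kernel
  have hne : α e6 ≠ 1 := fun h1 => by
    have h2 := α.injective (h1.trans (map_one α).symm)
    exact absurd h2 (by decide +kernel)
  have hcube : (α e6 : Perm (Fin 6)) * (α e6) * (α e6) = 1 := by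
    have h1 : α e6 * α e6 * α e6 = 1 := by
      rw [← map_mul, ← map_mul]
      have : e6 * e6 * e6 = 1 := by decide +kernel
      rw [this, map_one]
    exact congrArg Subtype.val h1
  rcases cube_cases _ hcube (fun h1 => hne (Subtype.ext h1)) with h1 | ⟨-, w, hw, hw'⟩
  · exact absurd (ns_of_three h3 ((three_iff _).1 h1)) h
  · have hα : (α e6 : Perm (Fin 6)) = w * t0 * w⁻¹ := by rw [hw']; group
    have h4 : ((thA * α) e6 : Perm (Fin 6)).IsThreeCycle := by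
      rw [MulAut.mul_apply, thA_coe, hα, map_mul, map_mul, map_inv, ← three_iff, mv_conj]
      decide +kernel
    obtain ⟨σ, hσ⟩ := ns_of_three h3 h4
    refine ⟨θ σ, fun x => ?_⟩
    have h5 := congrArg θ (hσ x)
    rw [MulAut.mul_apply, thA_coe, θ_θ, map_mul, map_mul, map_inv] at h5
    exact h5

def k1 : Perm (Fin 6) := c[1, 2] * c[3, 4]
def k2 : Perm (Fin 6) := c[1, 4, 3, 5]

theorem k1_facts : Perm.sign k1 = 1 ∧ k1 * θ px * k1⁻¹ = px * pb ∧ k1 * θ pb * k1⁻¹ = px * px * pb := by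
  decide +kernel

theorem k2_facts : Perm.sign k2 = -1 ∧ k2 * θ (px * pk : A6) * k2⁻¹ = ((px * pk : A6) : Perm (Fin 6))⁻¹ ∧
    k2 * θ k2 = ((px * pk : A6) : Perm (Fin 6)) * (px * pk : A6) := by
  decide +kernel

theorem s45_facts : Perm.sign (swap 4 5 : Perm (Fin 6)) = -1 ∧
    (swap 4 5 : Perm (Fin 6)) * px * (swap 4 5 : Perm (Fin 6))⁻¹ = (px : Perm (Fin 6))⁻¹ ∧
    (swap 4 5 : Perm (Fin 6)) * pb * (swap 4 5 : Perm (Fin 6))⁻¹ = pb := by
  decide +kernel

universe u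

variable {F : Type u} [Field F] {P : Subgroup (GL (Fin 6) F)} {C : Cov P A6}

/-- `h` induces `α` -/
def Ind (C : Cov P A6) (h : GL (Fin 6) F) (α : MulAut A6) : Prop := ∀ x σ, C.L x σ → C.L (h * x * h⁻¹) (α σ)

theorem Ind.mul {g h : GL (Fin 6) F} {α β : MulAut A6} (hg : Ind C g α) (hh : Ind C h β) : Ind C (g * h) (α * β) := by
  intro x σ hx
  have h1 := hg _ _ (hh _ _ hx)
  rw [show g * h * x * (g * h)⁻¹ = g * (h * x * h⁻¹) * g⁻¹ by group]
  exact h1

theorem Ind.of_lift {g : GL (Fin 6) F} {γ : A6} (hg : C.L g γ) : Ind C g (MulAut.conj γ) := fun _ _ hx => hx.conj hg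

/-- moving by an element of `P` -/
theorem Ind.move {h : GL (Fin 6) F} {α : MulAut A6} (hh : Ind C h α) (κ : Perm (Fin 6)) {τ : Perm (Fin 6)}
    {f : Perm (Fin 6) → Perm (Fin 6)}
    (hα : ∀ y : A6, (α y : Perm (Fin 6)) = τ * f y * τ⁻¹) (hs : Perm.sign κ = Perm.sign τ) :
    ∃ (k : GL (Fin 6) F) (β : MulAut A6), k ∈ P ∧ Ind C (k * h) β ∧
      ∀ y : A6, (β y : Perm (Fin 6)) = κ * f y * κ⁻¹ := by
  have hmem : κ * τ⁻¹ ∈ alternatingGroup (Fin 6) := by
    rw [mem_alternatingGroup, map_mul, map_inv, hs, mul_inv_cancel]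
  obtain ⟨k, hk⟩ := C.exists_lift ⟨κ * τ⁻¹, hmem⟩
  refine ⟨k, _, hk.mem, (Ind.of_lift hk).mul hh, fun y => ?_⟩
  rw [MulAut.mul_apply, MulAut.conj_apply]
  change κ * τ⁻¹ * (α y : Perm (Fin 6)) * (κ * τ⁻¹)⁻¹ = _
  rw [hα]
  group

/-- commutator scalars of lifts -/
theorem comm_eq {B X B' X' : GL (Fin 6) F} {β ξ : A6} {c : Fˣ} (hB : C.L B β) (hX : C.L X ξ) (hB' : C.L B' β) (hX' : C.L X' ξ)
    (h : B * X = sc c * (X * B)) : B' * X' = sc c * (X' * B') := by
  obtain ⟨s, -, rfl⟩ := hB'.exists_sc hB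
  obtain ⟨t, -, rfl⟩ := hX'.exists_sc hX
  have e1 : ∀ (a : Fˣ) (y : GL (Fin 6) F), sc a * y = y * sc a := sc_comm
  calc sc s * B * (sc t * X) = sc s * (B * sc t) * X := by simp only [mul_assoc]
    _ = sc s * sc t * (B * X) := by rw [← e1 t B]; simp only [mul_assoc]
    _ = sc s * sc t * sc c * (X * B) := by rw [h]; simp only [mul_assoc]
    _ = sc c * (sc t * (sc s * X) * B) := by
      rw [← e1 c (sc s * sc t), e1 s (sc t)]
      simp only [mul_assoc]
    _ = sc c * (sc t * X * (sc s * B)) := by rw [e1 s X]; simp only [mul_assoc]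

theorem conj_comm {B X : GL (Fin 6) F} {w : Fˣ} (h : B * X = sc w * (X * B)) (g : GL (Fin 6) F) :
    (g * B * g⁻¹) * (g * X * g⁻¹) = sc w * ((g * X * g⁻¹) * (g * B * g⁻¹)) := by
  calc (g * B * g⁻¹) * (g * X * g⁻¹) = g * (B * X) * g⁻¹ := by group
    _ = (g * sc w) * (X * B) * g⁻¹ := by rw [h]; simp only [mul_assoc]
    _ = (sc w * g) * (X * B) * g⁻¹ := by rw [sc_comm]
    _ = sc w * (g * (X * B) * g⁻¹) := by simp only [mul_assoc]
    _ = sc w * ((g * X * g⁻¹) * (g * B * g⁻¹)) := by congr 1; group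

/-- the sign case -/
theorem no_odd {B X : GL (Fin 6) F} (LB : C.L B pb) (LX : C.L X px) {w : Fˣ} (hBX : B * X = sc w * (X * B))
    (hw : w * w ≠ 1) {h : GL (Fin 6) F}
    {α : MulAut A6} (hI : Ind C h α) {σ : Perm (Fin 6)} (hσ : ∀ y : A6, (α y : Perm (Fin 6)) = σ * y * σ⁻¹)
    (hs : Perm.sign σ = -1) : False := by
  obtain ⟨hs1, e1, e2⟩ := s45_facts
  obtain ⟨t, β, ht, hβ, hβe⟩ := hI.move (swap 4 5 : Perm (Fin 6)) (f := fun y => y) hσ (by rw [hs1, hs])
  have LX' := hβ _ _ LX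
  have LB' := hβ _ _ LB
  have f1 : β px = px⁻¹ := Subtype.ext ((hβe px).trans e1)
  have f2 : β pb = pb := Subtype.ext ((hβe pb).trans e2)
  rw [f1] at LX'
  rw [f2] at LB'
  have h2 := comm_eq LB' LX' LB LX.inv (conj_comm hBX (t * h))
  have h3 : X⁻¹ * B = sc w * (B * X⁻¹) := by
    rw [inv_mul_eq_iff_eq_mul]
    calc B = (B * X) * X⁻¹ := by rw [mul_inv_cancel_right]
      _ = sc w * (X * B) * X⁻¹ := by rw [hBX]
      _ = (sc w * X) * (B * X⁻¹) := by simp only [mul_assoc]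
      _ = (X * sc w) * (B * X⁻¹) := by rw [sc_comm]
      _ = X * (sc w * (B * X⁻¹)) := mul_assoc _ _ _
  rw [h3, ← mul_assoc, ← H913.N6.sc_mul] at h2
  apply hw
  apply sc_inj (ι := Fin 6)
  rw [sc_one]
  exact mul_right_cancel (h2.symm.trans (one_mul _).symm)

/-- the first exotic case -/
theorem no_theta1 {B X : GL (Fin 6) F} (LB : C.L B pb) (LX : C.L X px) {w : Fˣ} (hBX : B * X = sc w * (X * B))
    (hw : w * w ≠ 1) {h : GL (Fin 6) F}
    {α : MulAut A6} (hI : Ind C h α) {σ : Perm (Fin 6)} (hσ : ∀ y : A6, (α y : Perm (Fin 6)) = σ * θ y * σ⁻¹)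
    (hs : Perm.sign σ = 1) : False := by
  obtain ⟨hs1, e1, e2⟩ := k1_facts
  obtain ⟨t, β, ht, hβ, hβe⟩ := hI.move k1 (f := fun y => θ y) hσ (by rw [hs1, hs])
  have LX' := hβ _ _ LX
  have LB' := hβ _ _ LB
  have f1 : β px = px * pb := Subtype.ext ((hβe px).trans e1)
  have f2 : β pb = px * px * pb := Subtype.ext ((hβe pb).trans e2)
  rw [f1] at LX'
  rw [f2] at LB'
  have h2 := comm_eq LB' LX' ((LX.mul LX).mul LB) (LX.mul LB) (conj_comm hBX (t * h))
  have h3 : X * X * B * (X * B) = sc w * (X * X * X * (B * B)) := by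
    calc X * X * B * (X * B) = X * X * (B * X) * B := by simp only [mul_assoc]
      _ = (X * X * sc w) * (X * B) * B := by rw [hBX]; simp only [mul_assoc]
      _ = (sc w * (X * X)) * (X * B) * B := by rw [sc_comm w (X * X)]
      _ = sc w * (X * X * X * (B * B)) := by simp only [mul_assoc]
  have h4 : X * B * (X * X * B) = sc (w * w) * (X * X * X * (B * B)) := by
    have h5 : B * (X * X) = sc (w * w) * (X * X * B) := by
      calc B * (X * X) = (B * X) * X := by rw [mul_assoc]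
        _ = sc w * (X * B) * X := by rw [hBX]
        _ = sc w * X * (B * X) := by simp only [mul_assoc]
        _ = sc w * (X * sc w) * (X * B) := by rw [hBX]; simp only [mul_assoc]
        _ = sc w * (sc w * X) * (X * B) := by rw [sc_comm w X]
        _ = sc (w * w) * (X * X * B) := by rw [H913.N6.sc_mul]; simp only [mul_assoc]
    calc X * B * (X * X * B) = X * (B * (X * X)) * B := by simp only [mul_assoc]
      _ = (X * sc (w * w)) * (X * X * B) * B := by rw [h5]; simp only [mul_assoc]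
      _ = (sc (w * w) * X) * (X * X * B) * B := by rw [sc_comm]
      _ = sc (w * w) * (X * X * X * (B * B)) := by simp only [mul_assoc]
  rw [h3, h4] at h2
  have h6 := mul_left_cancel h2
  apply hw
  apply sc_inj (ι := Fin 6)
  rw [sc_one]
  exact mul_right_cancel (h6.symm.trans (one_mul _).symm)

/-- the second exotic case -/
theorem no_theta2 {H : Subgroup (GL (Fin 6) F)} (hres : IsResidualCore H P) (h2 : (2 : F) ≠ 0)
    {K X : GL (Fin 6) F} (LK : C.L K pk) (LX : C.L X px)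
    (hXK : (X * K) * (X * K) * (X * K) * (X * K) = sc (-1)) {h : GL (Fin 6) F} (hh : h ∈ H)
    {α : MulAut A6} (hI : Ind C h α) {σ : Perm (Fin 6)} (hσ : ∀ y : A6, (α y : Perm (Fin 6)) = σ * θ y * σ⁻¹)
    (hs : Perm.sign σ = -1) : False := by
  have hC := core_of_residual hres
  obtain ⟨hs1, e1, e2⟩ := k2_facts
  obtain ⟨t, β, ht, hβ, hβe⟩ := hI.move k2 (f := fun y => θ y) hσ (by rw [hs1, hs])
  obtain ⟨D, hD⟩ : ∃ D, D = t * h := ⟨_, rfl⟩
  rw [← hD] at hβ
  have hDH : D ∈ H := by rw [hD]; exact H.mul_mem (hres.le ht) hh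
  have LW := LX.mul LK
  have f1 : β (px * pk) = (px * pk)⁻¹ := Subtype.ext ((hβe _).trans e1)
  obtain ⟨W, hW⟩ : ∃ W, W = X * K := ⟨_, rfl⟩
  rw [← hW] at LW hXK
  have LW' := hβ _ _ LW
  rw [f1] at LW'
  obtain ⟨ζ, hζP, hζ⟩ := LW'.exists_sc LW.inv
  -- `D²`
  have hDD := hβ.mul hβ
  have hββ : ∀ y : A6, (β * β) y = ((px * pk) * (px * pk)) * y * ((px * pk) * (px * pk))⁻¹ := by
    intro y
    apply Subtype.ext
    have h3 : (((β * β) y : A6) : Perm (Fin 6)) = k2 * θ (k2 * θ y * k2⁻¹) * k2⁻¹ := by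
      rw [MulAut.mul_apply, hβe, hβe]
    rw [h3, map_mul, map_mul, map_inv, θ_θ, show k2 * (θ k2 * (y : Perm (Fin 6)) * (θ k2)⁻¹) * k2⁻¹ =
      (k2 * θ k2) * y * (k2 * θ k2)⁻¹ by group, e2]
    simp only [Subgroup.coe_mul, Subgroup.coe_inv]
  obtain ⟨g, c, hg, hgc⟩ := Cov.mem_of_inner (C := C) (h := D * D) (fun g hg hx =>
    hres.centralizer_scalar _ (H.mul_mem (H.inv_mem (hres.le hg)) (H.mul_mem hDH hDH)) hx) hDD hββ
  obtain ⟨c', -, hc'⟩ := hg.exists_sc (LW.mul LW)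
  obtain ⟨μ, hμ⟩ : ∃ μ : Fˣ, D * D = sc μ * (W * W) :=
    ⟨c' * c, by rw [hgc, hc', mul_assoc, ← sc_comm c, ← mul_assoc, ← H913.N6.sc_mul]⟩
  have h3 : D * (D * D) * D⁻¹ = D * D := by group
  have h4 : D * (sc μ * (W * W)) * D⁻¹ = sc μ * ((D * W * D⁻¹) * (D * W * D⁻¹)) := by
    rw [← mul_assoc D, ← sc_comm μ D]; group
  rw [hμ, h4, hζ] at h3
  have h5 : sc ζ * W⁻¹ * (sc ζ * W⁻¹) = W * W := by
    exact mul_left_cancel h3
  have h6 : sc ζ * W⁻¹ * (sc ζ * W⁻¹) = sc (ζ * ζ) * (W * W)⁻¹ := by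
    calc sc ζ * W⁻¹ * (sc ζ * W⁻¹) = sc ζ * (W⁻¹ * sc ζ) * W⁻¹ := by simp only [mul_assoc]
      _ = sc ζ * (sc ζ * W⁻¹) * W⁻¹ := by rw [sc_comm ζ W⁻¹]
      _ = sc (ζ * ζ) * (W * W)⁻¹ := by rw [H913.N6.sc_mul, _root_.mul_inv_rev]; simp only [mul_assoc]
  rw [h6, mul_inv_eq_iff_eq_mul, ← mul_assoc, hXK] at h5
  have h7 := sc_inj h5
  have h8 : ζ ^ 6 = 1 := by
    have hmem : (⟨sc ζ, hζP⟩ : P) ∈ (scalars (Fin 6) F).subgroupOf P :=
      Subgroup.mem_subgroupOf.2 (sc_mem_scalars ζ)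
    have h9 := hC.pow_card hmem
    rw [Fintype.card_fin] at h9
    apply sc_inj (ι := Fin 6)
    rw [sc_pow, sc_one]
    exact congrArg (fun y : P => (y : GL (Fin 6) F)) h9
  have h9 : ζ ^ 6 = (ζ * ζ) ^ 3 := by rw [← pow_two, ← pow_mul]
  rw [h9, h7] at h8
  have h10 := congrArg (fun y : Fˣ => (y : F)) h8
  simp only [Units.val_pow_eq_pow_val, Units.val_neg, Units.val_one] at h10
  apply h2
  linear_combination -h10

/-- **Every element of `H` is a scalar times an element of `P`.** -/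
theorem le_scalars [Finite F] {H : Subgroup (GL (Fin 6) F)} (hres : IsResidualCore H P) (h2 : (2 : F) ≠ 0) {m z i j k b d x : P}
    (hL : Cov6.Lft C.π m z i j k b d x) (hm : (m : GL (Fin 6) F) = -1) {w : Fˣ} (hz : (z : GL (Fin 6) F) = sc w)
    {h : GL (Fin 6) F} (hh : h ∈ H) : ∃ g ∈ P, ∃ c : Fˣ, h = g * sc c := by
  obtain ⟨α, hα⟩ := C.exists_aut (h := h) (hres.normal h hh) (fun x hx => by
    have := hres.normal h⁻¹ (H.inv_mem hh) x hx
    rwa [inv_inv] at this)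
  have LB : C.L b pb := ⟨b.2, hL.πb⟩
  have LX : C.L x px := ⟨x.2, hL.πx⟩
  have LK : C.L k pk := ⟨k.2, hL.πk⟩
  have hBX : (b : GL (Fin 6) F) * (x : GL (Fin 6) F) = sc w * ((x : GL (Fin 6) F) * (b : GL (Fin 6) F)) := by
    have := congrArg (fun y : P => (y : GL (Fin 6) F)) hL.bx
    simp only [Subgroup.coe_mul] at this
    rw [this, hz]
  have hw : w * w ≠ 1 := by
    intro h1
    apply hL.z1
    have h3 : z * z = 1 := by
      apply Subtype.ext
      rw [Subgroup.coe_mul, hz, ← H913.N6.sc_mul, h1, sc_one, Subgroup.coe_one]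
    have h4 := hL.z3
    rwa [h3, one_mul] at h4
  have hXK : ((x : GL (Fin 6) F) * (k : GL (Fin 6) F)) * ((x : GL (Fin 6) F) * (k : GL (Fin 6) F)) *
      ((x : GL (Fin 6) F) * (k : GL (Fin 6) F)) * ((x : GL (Fin 6) F) * (k : GL (Fin 6) F)) = sc (-1) := by
    have := congrArg (fun y : P => (y : GL (Fin 6) F)) hL.xk
    simp only [Subgroup.coe_mul] at this
    rw [this, hm, sc_neg_one]
  by_cases hNS : NS α
  · obtain ⟨σ, hσ⟩ := hNS
    rcases Int.units_eq_one_or (sign σ) with hs | hs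
    · obtain ⟨g, c, hg, hgc⟩ := Cov.mem_of_inner (C := C) (h := h) (γ := ⟨σ, mem_alternatingGroup.2 hs⟩)
        (fun g hg hx => hres.centralizer_scalar _ (H.mul_mem (H.inv_mem (hres.le hg)) hh) hx) hα
        (fun y => Subtype.ext (hσ y))
      exact ⟨g, hg.mem, c, hgc⟩
    · exact (no_odd LB LX hBX hw hα hσ hs).elim
  · obtain ⟨τ, hτ⟩ := eq_theta hNS
    rcases Int.units_eq_one_or (sign τ) with hs | hs
    · exact (no_theta1 LB LX hBX hw hα hτ hs).elim
    · exact (no_theta2 hres h2 LK LX hXK hh hα hτ hs).elim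

end Cfsg.Agent.H830.A6
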