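import Mathlib

/-!
# `6.A₆`: lifting relations (helper830)

`Cov6 π m` : `π : Γ → A₆` surjective with central kernel of exponent `6`, `m` its unique involution, and the lifts of
the involutions have order divisible by `4`.
-/

set_option autoImplicit false
set_option linter.unusedSectionVars false
set_option linter.dupNamespace false

open Equiv Equiv.Perm

namespace Cfsg.Agent.H830.A6

abbrev A6 := alternatingGroup (Fin 6)

def pi' : A6 := ⟨c[0, 1] * c[2, 3], mem_alternatingGroup.2 (by decide)⟩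
def pj : A6 := ⟨c[0, 2] * c[1, 3], mem_alternatingGroup.2 (by decide)⟩
def pk : A6 := ⟨c[0, 3] * c[1, 2], mem_alternatingGroup.2 (by decide)⟩
def pb : A6 := ⟨c[1, 2, 3], mem_alternatingGroup.2 (by decide)⟩
def px : A6 := ⟨c[0, 4, 5], mem_alternatingGroup.2 (by decide)⟩
def pd : A6 := ⟨c[1, 2] * c[4, 5], mem_alternatingGroup.2 (by decide)⟩

variable {Γ : Type*} [Group Γ] {π : Γ →* A6} {m : Γ}

structure Cov6 (π : Γ →* A6) (m : Γ) : Prop where
  surj : Function.Surjective π
  cent : ∀ z, π z = 1 → ∀ g, z * g = g * z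
  pow6 : ∀ z, π z = 1 → z ^ 6 = 1
  πm : π m = 1
  mm : m * m = 1
  m1 : m ≠ 1
  uniq : ∀ z, π z = 1 → z * z = 1 → z = 1 ∨ z = m
  sq : ∀ t, π t * π t = 1 → π t ≠ 1 → t ^ 6 = m
  nc : ∀ x b, π x = px → π b = pb → b * x ≠ x * b

namespace Cov6

variable (h : Cov6 π m)
include h

theorem mc (g : Γ) : m * g = g * m := h.cent m h.πm g

theorem exists_z {g g' : Γ} (hg : π g = π g') : ∃ z, π z = 1 ∧ g = z * g' :=
  ⟨g * g'⁻¹, by rw [map_mul, map_inv, hg, mul_inv_cancel], by group⟩

/-- lift of an involution with square `m` -/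
theorem exists_inv {τ : A6} (h1 : τ * τ = 1) (h2 : τ ≠ 1) : ∃ t, π t = τ ∧ t * t = m := by
  obtain ⟨t, ht⟩ := h.surj τ
  refine ⟨t ^ 3, ?_, ?_⟩
  · rw [map_pow, ht, pow_succ, pow_two, h1, one_mul]
  · rw [← pow_add]
    exact h.sq t (by rw [ht, h1]) (by rw [ht]; exact h2)

theorem eq_of_sq {s t : Γ} (hst : π s = π t) (hs : s * s = m) (ht : t * t = m) : s = t ∨ s = m * t := by
  obtain ⟨z, hz, rfl⟩ := h.exists_z hst
  have hc := h.cent z hz
  have h1 : z * z = 1 := by
    have e : z * t * (z * t) = z * z * (t * t) := by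
      calc z * t * (z * t) = z * (t * z) * t := by simp only [mul_assoc]
        _ = z * (z * t) * t := by rw [← hc t]
        _ = z * z * (t * t) := by simp only [mul_assoc]
    rw [hs, ht] at e
    have := congrArg (· * m) e
    simp only [mul_assoc, h.mm, mul_one] at this
    exact this.symm
  rcases h.uniq z hz h1 with rfl | rfl
  · left; rw [one_mul]
  · right; rfl

/-- a lift of an element of order three inverted by an involution -/
theorem exists_three {τ : A6} {d : Γ} (h3 : τ ^ 3 = 1) (hinv : π d * τ * (π d)⁻¹ = τ⁻¹) :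
    ∃ x, π x = τ ∧ x ^ 3 = 1 ∧ d * x = x⁻¹ * d := by
  obtain ⟨x, hx⟩ := h.surj τ
  have hc3 : π (x ^ 3) = 1 := by rw [map_pow, hx, h3]
  obtain ⟨z, hz, hzx⟩ := h.exists_z (g := d * x * d⁻¹) (g' := x⁻¹) (by
    rw [map_mul, map_mul, map_inv, map_inv, hx, hinv])
  have hcc := h.cent _ hc3
  have hzc : ∀ g : Γ, Commute z g := h.cent z hz
  have h6 := h.pow6 z hz
  have h36 := h.pow6 _ hc3
  -- `x³` is an involution or trivial
  have e1 : x ^ 3 = z ^ 3 * (x ^ 3)⁻¹ := by
    have e2 : (d * x * d⁻¹) ^ 3 = x ^ 3 := by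
      rw [conj_pow, ← hcc, mul_inv_cancel_right]
    rw [hzx, (hzc _).mul_pow, inv_pow] at e2
    exact e2.symm
  have e3 : x ^ 3 * x ^ 3 = z ^ 3 := by
    nth_rewrite 1 [e1]
    rw [inv_mul_cancel_right]
  have e4 : x ^ 12 = 1 := by
    rw [show x ^ 12 = (x ^ 3 * x ^ 3) * (x ^ 3 * x ^ 3) by simp only [← pow_add], e3, ← pow_add, h6]
  have e36 : x ^ 18 = 1 := by rw [← h36, ← pow_mul]
  have e5 : x ^ 6 = 1 := by
    calc x ^ 6 = x ^ 18 * (x ^ 12)⁻¹ := by rw [eq_mul_inv_iff_mul_eq, ← pow_add]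
      _ = 1 := by rw [e36, e4, inv_one, mul_one]
  -- replace `x` by `x ^ 4`
  have hy3 : (x ^ 4) ^ 3 = 1 := by rw [← pow_mul, e4]
  have hy : π (x ^ 4) = τ := by
    rw [show x ^ 4 = x ^ 3 * x by rw [← pow_succ], map_mul, hc3, one_mul, hx]
  obtain ⟨u, hu, hux⟩ := h.exists_z (g := d * x ^ 4 * d⁻¹) (g' := (x ^ 4)⁻¹) (by
    rw [map_mul, map_mul, map_inv, map_inv, hy, hinv])
  have huc : ∀ g : Γ, Commute u g := h.cent u hu
  have hu3 : u ^ 3 = 1 := by
    have e6 : (d * x ^ 4 * d⁻¹) ^ 3 = 1 := by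
      rw [conj_pow, hy3, mul_one, mul_inv_cancel]
    rw [hux, (huc _).mul_pow, inv_pow, hy3, inv_one, mul_one] at e6
    exact e6
  have huu : u * u = u⁻¹ := by
    rw [← mul_eq_one_iff_eq_inv, ← hu3, pow_succ, pow_two]
  refine ⟨u * x ^ 4, ?_, ?_, ?_⟩
  · rw [map_mul, hu, one_mul, hy]
  · rw [(huc (x ^ 4)).mul_pow, hu3, hy3, one_mul]
  · have hux' : d * x ^ 4 = u * (x ^ 4)⁻¹ * d := by rw [← hux]; group
    calc d * (u * x ^ 4) = (d * u) * x ^ 4 := by rw [mul_assoc]
      _ = (u * d) * x ^ 4 := by rw [(huc d).eq]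
      _ = u * (d * x ^ 4) := by rw [mul_assoc]
      _ = u * (u * (x ^ 4)⁻¹ * d) := by rw [hux']
      _ = (u * u) * (x ^ 4)⁻¹ * d := by simp only [mul_assoc]
      _ = u⁻¹ * (x ^ 4)⁻¹ * d := by rw [huu]
      _ = (u * x ^ 4)⁻¹ * d := by rw [mul_inv_rev, ((huc (x ^ 4)).inv_inv).eq]

/-- The relations in the group. -/
structure Lft (π : Γ →* A6) (m z i j k b d x : Γ) : Prop where
  πz : π z = 1
  z1 : z ≠ 1
  z3 : z * z * z = 1
  πi : π i = pi'
  πj : π j = pj
  πk : π k = pk
  πb : π b = pb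
  πd : π d = pd
  πx : π x = px
  ii : i * i = m
  jj : j * j = m
  ij : i * j = k
  ji : j * i = m * k
  bi : b * i = j * b
  bj : b * j = k * b
  bbb : b * b * b = 1
  xxx : x * x * x = 1
  bx : b * x = z * (x * b)
  dd : d * d = m
  di : d * i = m * (j * d)
  db : d * b = b * b * d
  dx : d * x = x * x * d
  xk : (x * k) * (x * k) * (x * k) * (x * k) = m

theorem exists_quat {b : Γ} (πb : π b = pb) (b3 : b ^ 3 = 1) : ∃ i j k, π i = pi' ∧ π j = pj ∧ π k = pk ∧ i * i = m ∧
    j * j = m ∧ k * k = m ∧ i * j = k ∧ j * i = m * k ∧ b * i = j * b ∧ b * j = k * b ∧ b * k = i * b := by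
  obtain ⟨i, πi, ii⟩ := h.exists_inv (τ := pi') (by decide +kernel) (by decide +kernel)
  have mc := h.mc
  have mm := h.mm
  have bbb : b * b * b = 1 := by rw [← b3, pow_succ, pow_two]
  obtain ⟨j, hj⟩ : ∃ j, j = b * i * b⁻¹ := ⟨_, rfl⟩
  obtain ⟨k, hk⟩ : ∃ k, k = b * j * b⁻¹ := ⟨_, rfl⟩
  have πj : π j = pj := by rw [hj, map_mul, map_mul, map_inv, πb, πi]; decide +kernel
  have πk : π k = pk := by rw [hk, map_mul, map_mul, map_inv, πb, πj]; decide +kernel
  have bi : b * i = j * b := by rw [hj, inv_mul_cancel_right]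
  have bj : b * j = k * b := by rw [hk, inv_mul_cancel_right]
  have bk : b * k = i * b := by
    have e1 : b * b * b * i = i * (b * b * b) := by rw [bbb, one_mul, mul_one]
    have e2 : b * b * b * i = b * k * (b * b) := by
      calc b * b * b * i = b * b * (b * i) := by simp only [mul_assoc]
        _ = b * (b * j) * b := by rw [bi]; simp only [mul_assoc]
        _ = b * k * (b * b) := by rw [bj]; simp only [mul_assoc]
    rw [e2] at e1
    have e3 : b * k * (b * b) = i * b * (b * b) := by rw [e1]; simp only [mul_assoc]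
    exact mul_right_cancel e3
  have jj : j * j = m := by
    rw [hj, show b * i * b⁻¹ * (b * i * b⁻¹) = b * (i * i) * b⁻¹ by group, ii, ← mc, mul_inv_cancel_right]
  have kk : k * k = m := by
    rw [hk, show b * j * b⁻¹ * (b * j * b⁻¹) = b * (j * j) * b⁻¹ by group, jj, ← mc, mul_inv_cancel_right]
  -- `i` and `j` anticommute
  have hij : i * j * i⁻¹ * (i * j * i⁻¹) = m := by
    rw [show i * j * i⁻¹ * (i * j * i⁻¹) = i * (j * j) * i⁻¹ by group, jj, ← mc, mul_inv_cancel_right]
  have πij : π (i * j * i⁻¹) = π j := by rw [map_mul, map_mul, map_inv, πi, πj]; decide +kernel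
  have ji : j * i = m * (i * j) := by
    rcases h.eq_of_sq πij hij jj with h1 | h1
    · exfalso
      have h2 : i * j = j * i := by
        rw [mul_inv_eq_iff_eq_mul] at h1; exact h1
      have h3 : (i * j) * (i * j) = 1 := by
        calc (i * j) * (i * j) = i * (j * i) * j := by simp only [mul_assoc]
          _ = i * (i * j) * j := by rw [h2]
          _ = (i * i) * (j * j) := by simp only [mul_assoc]
          _ = 1 := by rw [ii, jj, mm]
      have h4 := h.sq (i * j) (by rw [map_mul, πi, πj]; decide +kernel) (by rw [map_mul, πi, πj]; decide +kernel)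
      apply h.m1
      rw [← h4, show (i * j) ^ 6 = ((i * j) ^ 2) ^ 3 by rw [← pow_mul], pow_two, h3, one_pow]
    · have h2 : i * j = m * j * i := by rw [mul_inv_eq_iff_eq_mul] at h1; exact h1
      rw [h2, ← mul_assoc, ← mul_assoc, mm, one_mul]
  have ijij : (i * j) * (i * j) = m := by
    calc (i * j) * (i * j) = i * (j * i) * j := by simp only [mul_assoc]
      _ = i * (m * (i * j)) * j := by rw [ji]
      _ = (i * m) * i * j * j := by simp only [mul_assoc]
      _ = (m * i) * i * j * j := by rw [← mc i]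
      _ = m * ((i * i) * (j * j)) := by simp only [mul_assoc]
      _ = m := by rw [ii, jj, mm, mul_one]
  rcases h.eq_of_sq (s := i * j) (t := k) (by rw [map_mul, πi, πj, πk]; decide +kernel) ijij kk with h1 | h1
  · exact ⟨i, j, k, πi, πj, πk, ii, jj, kk, h1, by rw [ji, h1], bi, bj, bk⟩
  · have sqm : ∀ a, a * a = m → m * a * (m * a) = m := by
      intro a ha
      calc m * a * (m * a) = m * (a * m) * a := by simp only [mul_assoc]
        _ = m * (m * a) * a := by rw [← mc a]
        _ = (m * m) * (a * a) := by simp only [mul_assoc]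
        _ = m := by rw [mm, ha, one_mul]
    have cm : ∀ a c, b * a = c * b → b * (m * a) = m * c * b := by
      intro a c hac
      rw [← mul_assoc, ← mc, mul_assoc, hac, mul_assoc]
    refine ⟨m * i, m * j, m * k, by rw [map_mul, h.πm, one_mul, πi], by rw [map_mul, h.πm, one_mul, πj],
      by rw [map_mul, h.πm, one_mul, πk], sqm i ii, sqm j jj, sqm k kk, ?_, ?_, cm _ _ bi, cm _ _ bj, cm _ _ bk⟩
    · calc m * i * (m * j) = m * (i * m) * j := by simp only [mul_assoc]
        _ = m * (m * i) * j := by rw [← mc i]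
        _ = (m * m) * (i * j) := by simp only [mul_assoc]
        _ = m * k := by rw [mm, one_mul, h1]
    · calc m * j * (m * i) = m * (j * m) * i := by simp only [mul_assoc]
        _ = m * (m * j) * i := by rw [← mc j]
        _ = (m * m) * (j * i) := by simp only [mul_assoc]
        _ = m * (m * k) := by rw [mm, one_mul, ji, h1]

theorem exists_lft : ∃ z i j k b d x, Lft π m z i j k b d x := by
  obtain ⟨d, πd, dd⟩ := h.exists_inv (τ := pd) (by decide +kernel) (by decide +kernel)
  obtain ⟨b, πb, b3, db⟩ := h.exists_three (τ := pb) (d := d) (by decide +kernel) (by rw [πd]; decide +kernel)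
  obtain ⟨x, πx, x3, dx⟩ := h.exists_three (τ := px) (d := d) (by decide +kernel) (by rw [πd]; decide +kernel)
  obtain ⟨i, j, k, πi, πj, πk, ii, jj, kk, ij, ji, bi, bj, bk⟩ := h.exists_quat πb b3
  have mc := h.mc
  have mm := h.mm
  have bbb : b * b * b = 1 := by rw [← b3, pow_succ, pow_two]
  have xxx : x * x * x = 1 := by rw [← x3, pow_succ, pow_two]
  have binv : b⁻¹ = b * b := (mul_eq_one_iff_eq_inv.1 bbb).symm
  have xinv : x⁻¹ = x * x := (mul_eq_one_iff_eq_inv.1 xxx).symm
  -- conjugation by `b⁻¹`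
  have bi' : b⁻¹ * j = i * b⁻¹ := by rw [inv_mul_eq_iff_eq_mul, ← mul_assoc, bi, mul_inv_cancel_right]
  have bj' : b⁻¹ * k = j * b⁻¹ := by rw [inv_mul_eq_iff_eq_mul, ← mul_assoc, bj, mul_inv_cancel_right]
  have bk' : b⁻¹ * i = k * b⁻¹ := by rw [inv_mul_eq_iff_eq_mul, ← mul_assoc, bk, mul_inv_cancel_right]
  have jb : j = b * i * b⁻¹ := by rw [bi, mul_inv_cancel_right]
  have kb : k = b * j * b⁻¹ := by rw [bj, mul_inv_cancel_right]
  -- `d i = m j d`
  have conjd : ∀ a c, d * a = c * d → d * (b * a * b⁻¹) = b⁻¹ * c * b * d := by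
    intro a c hac
    have e1 : d * b⁻¹ = b * d := by
      rw [mul_inv_eq_iff_eq_mul, mul_assoc, db, mul_inv_cancel_left]
    calc d * (b * a * b⁻¹) = (d * b) * a * b⁻¹ := by simp only [mul_assoc]
      _ = b⁻¹ * (d * a) * b⁻¹ := by rw [db]; simp only [mul_assoc]
      _ = b⁻¹ * c * (d * b⁻¹) := by rw [hac]; simp only [mul_assoc]
      _ = b⁻¹ * c * b * d := by rw [e1]; simp only [mul_assoc]
  have di : d * i = m * (j * d) := by
    have hsq : d * i * d⁻¹ * (d * i * d⁻¹) = m := by
      rw [show d * i * d⁻¹ * (d * i * d⁻¹) = d * (i * i) * d⁻¹ by group, ii, ← mc, mul_inv_cancel_right]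
    rcases h.eq_of_sq (s := d * i * d⁻¹) (t := j) (by
      rw [map_mul, map_mul, map_inv, πd, πi, πj]; decide +kernel) hsq jj with h1 | h1
    · exfalso
      have h2 : d * i = j * d := by rw [← h1, inv_mul_cancel_right]
      have h3 : d * j = i * d := by
        have := conjd i j h2
        rw [← jb, bi', inv_mul_cancel_right] at this
        exact this
      have h4 : d * k = k * d := by
        have := conjd j i h3
        rw [← kb, bk', inv_mul_cancel_right] at this
        exact this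
      have h5 : d * k = m * k * d := by
        rw [← ji, ← ij, ← mul_assoc, h2, mul_assoc, h3, mul_assoc]
      rw [h4] at h5
      have h6 := mul_right_cancel h5
      exact h.m1 (right_eq_mul.1 h6)
    · rw [← mul_assoc, ← h1, inv_mul_cancel_right]
  have dj : d * j = m * (i * d) := by
    have := conjd i (m * j) (by rw [di, mul_assoc])
    rw [← jb] at this
    rw [this]
    calc b⁻¹ * (m * j) * b * d = (b⁻¹ * m) * j * b * d := by simp only [mul_assoc]
      _ = m * (b⁻¹ * j) * b * d := by rw [← mc]; simp only [mul_assoc]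
      _ = m * (i * d) := by rw [bi']; simp only [mul_assoc, inv_mul_cancel_left]
  have dk : d * k = m * (k * d) := by
    rw [← ij]
    calc d * (i * j) = (d * i) * j := by rw [mul_assoc]
      _ = m * (j * (d * j)) := by rw [di]; simp only [mul_assoc]
      _ = m * (j * (m * (i * d))) := by rw [dj]
      _ = m * ((j * m) * i * d) := by simp only [mul_assoc]
      _ = m * ((m * j) * i * d) := by rw [← mc j]
      _ = m * (m * (j * i) * d) := by simp only [mul_assoc]
      _ = m * (i * j * d) := by rw [ji, ij, ← mul_assoc m m, mm, one_mul]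
  -- the scalar
  obtain ⟨z, πz, hz⟩ := h.exists_z (g := b * x) (g' := x * b) (by
    rw [map_mul, map_mul, πb, πx]; decide +kernel)
  have zc := h.cent z πz
  have z1 : z ≠ 1 := by
    rintro rfl
    exact h.nc x b πx πb (by rw [hz, one_mul])
  have z3 : z * z * z = 1 := by
    have e1 : b * x * b⁻¹ = z * x := by rw [hz, mul_assoc, mul_inv_cancel_right]
    have e2 : (b * x * b⁻¹) ^ 3 = 1 := by rw [conj_pow, x3, mul_one, mul_inv_cancel]
    rw [e1, (show Commute z x from zc x).mul_pow, x3, mul_one] at e2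
    rw [← e2, pow_succ, pow_two]
  have xk : (x * k) * (x * k) * (x * k) * (x * k) = m := by
    have e0 : (x * k) * (x * k) * (x * k) * (x * k) = (x * k) ^ 4 := by
      simp only [pow_succ, pow_zero, one_mul]
    rw [e0]
    have hker : π ((x * k) ^ 4) = 1 := by rw [map_pow, map_mul, πx, πk]; decide +kernel
    have cc := h.cent _ hker
    have h12 : (x * k) ^ 12 = m := by
      have := h.sq ((x * k) ^ 2) (by rw [map_pow, map_mul, πx, πk]; decide +kernel)
        (by rw [map_pow, map_mul, πx, πk]; decide +kernel)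
      rw [← pow_mul] at this
      exact this
    have kinv : k⁻¹ = m * k := by
      rw [inv_eq_iff_mul_eq_one, ← mul_assoc, ← mc, mul_assoc, kk, mm]
    have e1 : d * (x * k) * d⁻¹ = (k * x)⁻¹ := by
      rw [mul_inv_rev, kinv, mul_inv_eq_iff_eq_mul, ← mul_assoc, dx, mul_assoc, dk]
      simp only [mul_assoc]
    have e2 : (k * x) ^ 4 = (x * k) ^ 4 := by
      have : k * x = x⁻¹ * (x * k) * x⁻¹⁻¹ := by group
      rw [this, conj_pow, ← cc, mul_inv_cancel_right] 
    have e3 : (x * k) ^ 4 = ((x * k) ^ 4)⁻¹ := by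
      have : (d * (x * k) * d⁻¹) ^ 4 = (x * k) ^ 4 := by rw [conj_pow, ← cc, mul_inv_cancel_right]
      rw [e1, inv_pow, e2] at this
      exact this.symm
    have e4 : (x * k) ^ 8 = 1 := by
      have : (x * k) ^ 4 * (x * k) ^ 4 = 1 := by nth_rewrite 1 [e3]; rw [inv_mul_cancel]
      rw [← this, ← pow_add]
    calc (x * k) ^ 4 = (x * k) ^ 12 * ((x * k) ^ 8)⁻¹ := by rw [eq_mul_inv_iff_mul_eq, ← pow_add]
      _ = m := by rw [h12, e4, inv_one, mul_one]
  exact ⟨z, i, j, k, b, d, x, πz, z1, z3, πi, πj, πk, πb, πd, πx, ii, jj, ij, ji, bi, bj, bbb, xxx, hz, dd, di,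
    by rw [db, binv], by rw [dx, xinv], xk⟩

end Cov6

end Cfsg.Agent.H830.A6
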