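import Cfsg.Agent.H913.N6Cov
import Cfsg.Agent.H830.A6.Lift

/-!
# `6.A₆` in dimension six: the core as a cover (helper830)

Transfer arguments: lifts of the involutions have order divisible by four, lifts of two disjoint three-cycles do not
commute.
-/

set_option autoImplicit false
set_option linter.unusedSectionVars false
set_option linter.dupNamespace false

open Equiv Equiv.Perm

namespace Cfsg.Agent.H830.A6

section transfer

variable {Γ : Type*} [Group Γ] [Finite Γ]

/-- transfer of a character -/
theorem char_index {A : Type*} [CommGroup A] (hL : commutator Γ = ⊤) (S : Subgroup Γ) (χ : S →* A) {z : Γ}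
    (hzS : z ∈ S) (hz : ∀ x, z * x = x * z) : χ ⟨z, hzS⟩ ^ S.index = 1 := by
  classical
  let f : Γ →* A := MonoidHom.transfer χ
  have h1 : ∀ g, f g = 1 := by
    intro g
    have h2 : commutator Γ ≤ f.ker := Abelianization.commutator_subset_ker f
    rw [hL] at h2
    exact h2 (Subgroup.mem_top g)
  have h3 := MonoidHom.transfer_eq_pow χ z (by
    intro k g _
    rw [mul_assoc, (show Commute (z ^ k) g from (show Commute z g from hz g).pow_left k).eq, ← mul_assoc,
      inv_mul_cancel, one_mul])
  have h4 := h1 z
  change MonoidHom.transfer χ z = 1 at h4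
  rw [h3] at h4
  rw [← map_pow]
  exact h4

end transfer

/-- the centraliser of a permutation -/
def cen (t : Perm (Fin 6)) : Subgroup A6 where
  carrier := {σ | (σ : Perm (Fin 6)) * t = t * σ}
  one_mem' := by simp
  mul_mem' := by
    intro a b ha hb
    change ((a * b : A6) : Perm (Fin 6)) * t = t * (a * b : A6)
    rw [Subgroup.coe_mul, mul_assoc, hb, ← mul_assoc, ha, mul_assoc]
  inv_mem' := by
    intro a ha
    change ((a⁻¹ : A6) : Perm (Fin 6)) * t = t * (a⁻¹ : A6)
    rw [Subgroup.coe_inv, inv_mul_eq_iff_eq_mul, ← mul_assoc, eq_mul_inv_iff_mul_eq]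
    exact (show (a : Perm (Fin 6)) * t = t * a from ha).symm

instance (t : Perm (Fin 6)) : DecidablePred (· ∈ cen t) := fun σ =>
  inferInstanceAs (Decidable ((σ : Perm (Fin 6)) * t = t * σ))

theorem card_A6 : Nat.card A6 = 360 := by
  rw [Nat.card_eq_fintype_card]; decide +kernel

theorem card_cen : Nat.card (cen pi') = 8 := by
  rw [Nat.card_eq_fintype_card]; decide +kernel

instance : DecidablePred (· ∈ (cen pb ⊓ cen px : Subgroup A6)) := fun σ =>
  inferInstanceAs (Decidable (σ ∈ cen pb ∧ σ ∈ cen px))

theorem card_cen2 : Nat.card (cen pb ⊓ cen px : Subgroup A6) = 9 := by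
  rw [Nat.card_eq_fintype_card]; decide +kernel

end Cfsg.Agent.H830.A6
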