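import Cfsg.Agent.H830.A6.Core

/-!
# `6.A₆` in dimension six: the core is a cover in the sense of `Cov6` (helper830)
-/

set_option autoImplicit false
set_option linter.unusedSectionVars false
set_option linter.dupNamespace false

open Equiv Equiv.Perm

namespace Cfsg.Agent.H830.A6

open Cfsg Cfsg.Geo Matrix Cfsg.Agent.H915.LD Cfsg.Agent.H913.N6

universe u

variable {F : Type u} [Field F] [Finite F] {P : Subgroup (GL (Fin 6) F)}

theorem exists_prime_scalar {n : ℕ} [hn : Fact n.Prime] (h : n ∣ Nat.card ((scalars (Fin 6) F).subgroupOf P)) :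
    ∃ c : Fˣ, (sc c : GL (Fin 6) F) ∈ P ∧ c ≠ 1 ∧ c ^ n = 1 := by
  obtain ⟨z, hz⟩ := exists_prime_orderOf_dvd_card' (G := (scalars (Fin 6) F).subgroupOf P) n h
  obtain ⟨c, hc⟩ := mem_scalars.1 (Subgroup.mem_subgroupOf.1 z.2)
  refine ⟨c, hc ▸ z.1.2, ?_, ?_⟩
  · rintro rfl
    have : z = 1 := Subtype.ext (Subtype.ext (by rw [hc, sc_one]; rfl))
    rw [this, orderOf_one] at hz
    exact hn.out.one_lt.ne hz
  · have h1 : z ^ n = 1 := by rw [← hz, pow_orderOf_eq_one]
    apply sc_inj (ι := Fin 6)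
    rw [sc_pow, ← hc, sc_one]
    have := congrArg (fun y : (scalars (Fin 6) F).subgroupOf P => ((y : P) : GL (Fin 6) F)) h1
    simpa using this

theorem sc_neg_one : (sc (-1) : GL (Fin 6) F) = -1 := by
  apply Units.ext
  rw [coe_sc]
  simp

theorem neg_mem (h : 2 ∣ Nat.card ((scalars (Fin 6) F).subgroupOf P)) :
    (-1 : GL (Fin 6) F) ∈ P ∧ (2 : F) ≠ 0 := by
  have : Fact (Nat.Prime 2) := ⟨Nat.prime_two⟩
  obtain ⟨c, hc, h1, hcn⟩ := exists_prime_scalar h
  have h3 : c = -1 := by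
    have h4 : (c - 1 : F) * (c + 1) = 0 := by
      have := congrArg (fun y : Fˣ => (y : F)) hcn
      simp only [Units.val_pow_eq_pow_val, Units.val_one] at this
      linear_combination this
    rcases mul_eq_zero.1 h4 with h | h
    · exact absurd (Units.ext (by rw [Units.val_one]; linear_combination h)) h1
    · apply Units.ext
      rw [Units.val_neg, Units.val_one]
      linear_combination h
  refine ⟨by rw [← sc_neg_one, ← h3]; exact hc, fun h2 => h1 ?_⟩
  rw [h3]
  apply Units.ext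
  rw [Units.val_neg, Units.val_one]
  linear_combination -h2

section lift

variable (C : Cov P A6)

theorem exists_sc' {z : P} (hz : C.π z = 1) : ∃ c : Fˣ, (z : GL (Fin 6) F) = sc c := mem_scalars.1 ((C.ker z).1 hz)

theorem cent' {z : P} (hz : C.π z = 1) (g : P) : z * g = g * z := by
  obtain ⟨c, hc⟩ := exists_sc' C hz
  apply Subtype.ext
  rw [Subgroup.coe_mul, Subgroup.coe_mul, hc, sc_comm]

theorem pow6' (hC : Core P) {z : P} (hz : C.π z = 1) : z ^ 6 = 1 := by
  have h1 : z ∈ (scalars (Fin 6) F).subgroupOf P := Subgroup.mem_subgroupOf.2 ((C.ker z).1 hz)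
  have h2 := hC.pow_card h1
  rwa [Fintype.card_fin] at h2

/-- the action on vectors -/
def act (x : P) (v : Fin 6 → F) : Fin 6 → F := ((x : GL (Fin 6) F) : Matrix (Fin 6) (Fin 6) F) *ᵥ v

theorem act_mul (x y : P) (v : Fin 6 → F) : act (x * y) v = act x (act y v) := by
  unfold act
  rw [Subgroup.coe_mul, Units.val_mul, Matrix.mulVec_mulVec]

theorem act_one (v : Fin 6 → F) : act (1 : P) v = v := by
  unfold act
  rw [Subgroup.coe_one, Units.val_one, Matrix.one_mulVec]

theorem act_add (x : P) (v w : Fin 6 → F) : act x (v + w) = act x v + act x w := by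
  unfold act
  rw [Matrix.mulVec_add]

theorem act_smul (x : P) (c : F) (v : Fin 6 → F) : act x (c • v) = c • act x v := by
  unfold act
  rw [Matrix.mulVec_smul]

theorem act_neg (x : P) (v : Fin 6 → F) : act x (-v) = -act x v := by
  unfold act
  rw [Matrix.mulVec_neg]

theorem act_sc {z : P} {c : Fˣ} (hz : (z : GL (Fin 6) F) = sc c) (v : Fin 6 → F) : act z v = (c : F) • v := by
  unfold act
  rw [hz, coe_sc, Matrix.smul_mulVec, Matrix.one_mulVec]

def pT : A6 := ⟨c[0, 1] * c[4, 5], mem_alternatingGroup.2 (by decide)⟩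
def pW : A6 := ⟨c[0, 2, 1, 3] * c[4, 5], mem_alternatingGroup.2 (by decide)⟩

theorem cen_form : ∀ σ : A6, σ ∈ cen pi' → ∃ i : Fin 4, ∃ j : Fin 2, σ = pW ^ (i : ℕ) * pT ^ (j : ℕ) := by
  decide +kernel

theorem pT_facts : pT * pT = 1 ∧ pT ≠ 1 ∧ (pT * pW) * (pT * pW) = 1 ∧ pT * pW ≠ 1 ∧ pT * (pT * pW) = pW ∧
    pW * pW = pi' ∧ pi' ≠ 1 ∧ pi' * pi' = 1 := by decide +kernel

theorem act_eigen {W : P} {v : Fin 6 → F} {ε : F} (h : act W v = ε • v) (n : ℕ) : act (W ^ n) v = ε ^ n • v := by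
  induction n with
  | zero => rw [pow_zero, pow_zero, act_one, one_smul]
  | succ n ih => rw [pow_succ, act_mul, h, act_smul, ih, smul_smul, pow_succ, mul_comm ε]

/-- The lifts of the involutions are not all of order two up to scalars. -/
theorem no_inv_lift (hC : Core P) (h2 : (2 : F) ≠ 0) (hm : (-1 : GL (Fin 6) F) ∈ P)
    (hinv : ∀ τ : A6, τ * τ = 1 → τ ≠ 1 → ∃ t : P, C.π t = τ ∧ t * t = 1) : False := by
  obtain ⟨hT1, hT2, hU1, hU2, hTU, hWW, hi1, hi2⟩ := pT_facts
  obtain ⟨T, πT, TT⟩ := hinv _ hT1 hT2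
  obtain ⟨U, πU, UU⟩ := hinv _ hU1 hU2
  obtain ⟨W, hW⟩ : ∃ W, W = T * U := ⟨_, rfl⟩
  have πW : C.π W = pW := by rw [hW, map_mul, πT, πU, hTU]
  have Winv : W * (U * T) = 1 := by
    rw [hW, mul_assoc, ← mul_assoc U, UU, one_mul, TT]
  have Winv' : (U * T) * W = 1 := by
    rw [hW, mul_assoc, ← mul_assoc T, TT, one_mul, UU]
  have TW : T * W = U * T * T := by rw [hW, ← mul_assoc, TT, one_mul, mul_assoc, TT, mul_one]
  -- `W⁴ = 1`
  have πW4 : C.π (W ^ 4) = 1 := by
    rw [map_pow, πW, show pW ^ 4 = (pW * pW) * (pW * pW) by simp only [pow_succ, pow_zero, one_mul, mul_assoc], hWW, hi2]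
  have c4 := cent' C πW4
  have hV : U * T = W⁻¹ := eq_inv_of_mul_eq_one_left Winv'
  have e8 : W ^ 4 * W ^ 4 = 1 := by
    have h3 : T * W * T⁻¹ = W⁻¹ := by rw [TW, mul_inv_cancel_right, hV]
    have h4 : (T * W * T⁻¹) ^ 4 = W ^ 4 := by rw [conj_pow, ← c4, mul_inv_cancel_right]
    rw [h3, inv_pow] at h4
    nth_rewrite 1 [← h4]
    rw [inv_mul_cancel]
  have e12 : W ^ 12 = 1 := by
    obtain ⟨t, πt, tt⟩ := hinv _ hi2 hi1
    have h3 : C.π (W * W * t⁻¹) = 1 := by rw [map_mul, map_mul, map_inv, πW, πt, hWW, mul_inv_cancel]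
    obtain ⟨z, hz⟩ : ∃ z, z = W * W * t⁻¹ := ⟨_, rfl⟩
    rw [← hz] at h3
    have h4 : W * W = z * t := by rw [hz, inv_mul_cancel_right]
    have hc : Commute z t := cent' C h3 t
    have h5 : W ^ 4 = z ^ 2 := by
      rw [show W ^ 4 = (W * W) ^ 2 by simp only [pow_succ, pow_zero, one_mul, mul_assoc], h4, hc.mul_pow,
        pow_two t, tt, mul_one]
    rw [show W ^ 12 = (W ^ 4) ^ 3 by rw [← pow_mul], h5, ← pow_mul]
    exact pow6' C hC h3
  have e4 : W ^ 4 = 1 := by
    have h3 : W ^ 12 = W ^ 4 * W ^ 4 * W ^ 4 := by rw [← pow_add, ← pow_add]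
    rw [h3, e8, one_mul] at e12
    exact e12
  -- a vector fixed by `W²`
  obtain ⟨v0, hv0, hW0⟩ : ∃ v : Fin 6 → F, v ≠ 0 ∧ act W (act W v) = v := by
    by_contra hcon
    push Not at hcon
    have h3 : ∀ v, act W (act W v) = -v := by
      intro v
      have h4 : act W (act W (act W (act W v))) = v := by
        rw [← act_mul, ← act_mul, ← act_mul, show W * W * W * W = W ^ 4 by
          simp only [pow_succ, pow_zero, one_mul], e4, act_one]
      by_contra h5
      apply hcon (v + act W (act W v))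
      · intro h6
        exact h5 (by rw [← sub_eq_zero, sub_neg_eq_add, add_comm]; exact h6)
      · rw [act_add, act_add, h4, add_comm]
    have h4 : ((W * W : P) : GL (Fin 6) F) = -1 := by
      apply Units.ext
      apply Matrix.toLin'.injective
      apply LinearMap.ext
      intro v
      rw [Matrix.toLin'_apply, Matrix.toLin'_apply]
      have := h3 v
      rw [← act_mul] at this
      rw [Units.val_neg, Units.val_one, Matrix.neg_mulVec, Matrix.one_mulVec]
      exact this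
    have h5 : C.π (W * W) = 1 := by
      rw [C.ker, h4, ← sc_neg_one]
      exact sc_mem_scalars _
    rw [map_mul, πW, hWW] at h5
    exact hi1 h5
  -- an eigenvector of `W`
  obtain ⟨v1, ε, hv1, hε, hW1⟩ : ∃ (v : Fin 6 → F) (ε : F), v ≠ 0 ∧ ε * ε = 1 ∧ act W v = ε • v := by
    by_cases h : v0 + act W v0 = 0
    · exact ⟨v0, -1, hv0, by ring, by rw [neg_smul, one_smul, eq_neg_iff_add_eq_zero, add_comm]; exact h⟩
    · exact ⟨_, 1, h, by ring, by rw [act_add, hW0, one_smul, add_comm]⟩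
  have hWi1 : act (U * T) v1 = ε • v1 := by
    have h3 : act (U * T) (act W v1) = v1 := by rw [← act_mul, Winv', act_one]
    rw [hW1, act_smul] at h3
    calc act (U * T) v1 = (ε * ε) • act (U * T) v1 := by rw [hε, one_smul]
      _ = ε • v1 := by rw [← smul_smul, h3]
  have hTT : ∀ v : Fin 6 → F, act T (act T v) = v := fun v => by rw [← act_mul, TT, act_one]
  have hWT : act W (act T v1) = ε • act T v1 := by
    have h3 : W * T = T * (U * T) := by rw [hW, mul_assoc]
    rw [← act_mul, h3, act_mul, hWi1, act_smul]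
  obtain ⟨v, δ, hv, hδ, hWv, hTv⟩ : ∃ (v : Fin 6 → F) (δ : F), v ≠ 0 ∧ δ * δ = 1 ∧ act W v = ε • v ∧
      act T v = δ • v := by
    by_cases h : v1 + act T v1 = 0
    · exact ⟨v1, -1, hv1, by ring, hW1, by rw [neg_smul, one_smul, eq_neg_iff_add_eq_zero, add_comm]; exact h⟩
    · exact ⟨_, 1, h, by ring, by rw [act_add, hW1, hWT, smul_add], by rw [act_add, hTT, one_smul, add_comm]⟩
  -- the character
  have hch : ∀ s : ((cen pi').comap C.π : Subgroup P), ∃ c : Fˣ, act (s : P) v = (c : F) • v := by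
    intro s
    obtain ⟨i, j, hij⟩ := cen_form _ (Subgroup.mem_comap.1 s.2)
    have h3 : C.π ((s : P) * (W ^ (i : ℕ) * T ^ (j : ℕ))⁻¹) = 1 := by
      rw [map_mul, map_inv, map_mul, map_pow, map_pow, πW, πT, hij, mul_inv_cancel]
    obtain ⟨c, hc⟩ := exists_sc' C h3
    have h4 : (s : P) = (s : P) * (W ^ (i : ℕ) * T ^ (j : ℕ))⁻¹ * (W ^ (i : ℕ) * T ^ (j : ℕ)) := by
      rw [inv_mul_cancel_right]
    have hε0 : ε ≠ 0 := by rintro rfl; simp at hε
    have hδ0 : δ ≠ 0 := by rintro rfl; simp at hδ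
    refine ⟨c * (Units.mk0 ε hε0 ^ (i : ℕ) * Units.mk0 δ hδ0 ^ (j : ℕ)), ?_⟩
    rw [h4, act_mul, act_sc hc, act_mul, act_eigen hTv, act_smul, act_eigen hWv]
    simp only [smul_smul, Units.val_mul, Units.val_pow_eq_pow_val, Units.val_mk0]
    congr 1
    ring
  choose χ hχ using hch
  have hinj : ∀ c d : Fˣ, (c : F) • v = (d : F) • v → c = d := by
    intro c d hcd
    apply Units.ext
    rw [← sub_eq_zero, ← sub_smul] at hcd
    rcases smul_eq_zero.1 hcd with h | h
    · rwa [sub_eq_zero] at h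
    · exact absurd h hv
  let f : ((cen pi').comap C.π : Subgroup P) →* Fˣ := MonoidHom.mk' χ (by
    intro a b
    apply hinj
    rw [← hχ, Subgroup.coe_mul, act_mul, hχ b, act_smul, hχ a, smul_smul, Units.val_mul, mul_comm])
  have hmπ : C.π ⟨-1, hm⟩ = 1 := by
    rw [C.ker]
    change (-1 : GL (Fin 6) F) ∈ _
    rw [← sc_neg_one]
    exact sc_mem_scalars _
  have hmS : (⟨-1, hm⟩ : P) ∈ ((cen pi').comap C.π : Subgroup P) := by
    rw [Subgroup.mem_comap, hmπ]
    exact one_mem _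
  have h3 := char_index hC.commutator_top _ f hmS (cent' C hmπ)
  have h4 : f ⟨_, hmS⟩ = -1 := by
    apply hinj
    change ((χ _ : Fˣ) : F) • v = _
    rw [← hχ]
    exact act_sc (by change (-1 : GL (Fin 6) F) = _; rw [sc_neg_one]) v
  have h5 : ((cen pi').comap C.π : Subgroup P).index = 45 := by
    rw [Subgroup.index_comap_of_surjective _ C.surj]
    have h6 := Subgroup.card_mul_index (cen pi')
    rw [card_cen, card_A6] at h6
    omega
  rw [h4, h5] at h3
  have h6 := congrArg (fun y : Fˣ => (y : F)) h3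
  simp only [Units.val_pow_eq_pow_val, Units.val_neg, Units.val_one] at h6
  apply h2
  have h7 : (-1 : F) ^ 45 = -1 := by norm_num
  rw [h7] at h6
  linear_combination -h6

theorem cen2_form : ∀ σ : A6, σ ∈ (cen pb ⊓ cen px : Subgroup A6) → ∃ i : Fin 3, ∃ j : Fin 3,
    σ = pb ^ (i : ℕ) * px ^ (j : ℕ) := by
  decide +kernel

/-- The lifts of `(1 2 3)` and `(0 4 5)` do not commute. -/
theorem no_comm_lift (hC : Core P) {w : Fˣ} (hw : (sc w : GL (Fin 6) F) ∈ P) (hw1 : w ≠ 1) (hw3 : w ^ 3 = 1) {b x : P}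
    (πb : C.π b = pb) (πx : C.π x = px) (hc : b * x = x * b) : False := by
  have hzπ : C.π ⟨sc w, hw⟩ = 1 := by
    rw [C.ker]
    exact sc_mem_scalars _
  have hform : ∀ s ∈ ((cen pb ⊓ cen px).comap C.π : Subgroup P), ∃ (z : P) (i j : ℕ), C.π z = 1 ∧
      s = z * (b ^ i * x ^ j) := by
    intro s hs
    obtain ⟨i, j, hij⟩ := cen2_form _ (Subgroup.mem_comap.1 hs)
    refine ⟨s * (b ^ (i : ℕ) * x ^ (j : ℕ))⁻¹, i, j, ?_, by rw [inv_mul_cancel_right]⟩
    rw [map_mul, map_inv, map_mul, map_pow, map_pow, πb, πx, hij, mul_inv_cancel]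
  have hcomm : ∀ s ∈ ((cen pb ⊓ cen px).comap C.π : Subgroup P), ∀ t ∈ ((cen pb ⊓ cen px).comap C.π : Subgroup P),
      s * t = t * s := by
    intro s hs t ht
    obtain ⟨z, i, j, hz, rfl⟩ := hform s hs
    obtain ⟨z', i', j', hz', rfl⟩ := hform t ht
    have hbx : Commute b x := hc
    have h1 : Commute (b ^ i * x ^ j) (b ^ i' * x ^ j') :=
      ((Commute.pow_pow_self b i i').mul_right (hbx.pow_pow i j')).mul_left
        ((hbx.symm.pow_pow j i').mul_right (Commute.pow_pow_self x j j'))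
    have h2 : ∀ g : P, Commute z g := cent' C hz
    have h3 : ∀ g : P, Commute z' g := cent' C hz'
    exact ((h2 _).mul_left ((h3 _).symm.mul_right h1))
  have hmem : (⟨sc w, hw⟩ : P) ∈ ((cen pb ⊓ cen px).comap C.π : Subgroup P) := by
    rw [Subgroup.mem_comap, hzπ]
    exact one_mem _
  have h3 := pow_index_mem hC.commutator_top _ hcomm hmem (cent' C hzπ)
  have h5 : ((cen pb ⊓ cen px).comap C.π : Subgroup P).index = 40 := by
    rw [Subgroup.index_comap_of_surjective _ C.surj]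
    have h6 := Subgroup.card_mul_index (cen pb ⊓ cen px)
    rw [card_cen2, card_A6] at h6
    omega
  rw [h5] at h3
  have h6 : w ^ 40 = 1 := by
    apply sc_inj (ι := Fin 6)
    rw [sc_pow, sc_one]
    exact congrArg (fun y : P => (y : GL (Fin 6) F)) h3
  apply hw1
  have h7 : w ^ 40 = (w ^ 3) ^ 13 * w := by rw [← pow_mul, ← pow_succ]
  rw [h7, hw3, one_pow, one_mul] at h6
  exact h6

theorem invol_conj : ∀ τ : A6, τ * τ = 1 → τ ≠ 1 → ∃ γ : A6, γ * pi' * γ⁻¹ = τ := by decide +kernel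

/-- the core is a cover -/
theorem cov6 (hC : Core P) (hn : Nat.card ((scalars (Fin 6) F).subgroupOf P) = 6) (hm : (-1 : GL (Fin 6) F) ∈ P) :
    Cov6 C.π (⟨-1, hm⟩ : P) := by
  have h2 : (2 : F) ≠ 0 := (neg_mem (P := P) (by rw [hn]; norm_num)).2
  have hmπ : C.π ⟨-1, hm⟩ = 1 := by
    rw [C.ker]
    change (-1 : GL (Fin 6) F) ∈ _
    rw [← sc_neg_one]
    exact sc_mem_scalars _
  have huniq : ∀ z, C.π z = 1 → z * z = 1 → z = 1 ∨ z = (⟨-1, hm⟩ : P) := by
    intro z hz hzz
    obtain ⟨c, hc⟩ := exists_sc' C hz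
    have h3 : c * c = 1 := by
      apply sc_inj (ι := Fin 6)
      rw [H913.N6.sc_mul, sc_one, ← hc]
      exact congrArg (fun y : P => (y : GL (Fin 6) F)) hzz
    have h4 : (c - 1 : F) * (c + 1) = 0 := by
      have := congrArg (fun y : Fˣ => (y : F)) h3
      simp only [Units.val_mul, Units.val_one] at this
      linear_combination this
    rcases mul_eq_zero.1 h4 with h | h
    · left
      have h5 : c = 1 := Units.ext (by rw [Units.val_one]; linear_combination h)
      exact Subtype.ext (by rw [hc, h5, sc_one]; rfl)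
    · right
      have h5 : c = -1 := Units.ext (by rw [Units.val_neg, Units.val_one]; linear_combination h)
      exact Subtype.ext (by rw [hc, h5, sc_neg_one])
  have hsq0 : ∀ t, C.π t = pi' → t ^ 6 = (⟨-1, hm⟩ : P) := by
    intro t ht
    have h3 : C.π (t * t) = 1 := by rw [map_mul, ht]; exact pT_facts.2.2.2.2.2.2.2
    have h4 : (t ^ 6) * (t ^ 6) = 1 := by
      rw [← pow6' C hC h3]
      simp only [← pow_two, ← pow_mul]
    have h5 : C.π (t ^ 6) = 1 := by
      rw [show t ^ 6 = (t * t) ^ 3 by simp only [← pow_two, ← pow_mul], map_pow, h3, one_pow]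
    rcases huniq _ h5 h4 with h6 | h6
    · exfalso
      refine no_inv_lift C hC h2 hm fun τ hτ hτ1 => ?_
      obtain ⟨γ, rfl⟩ := invol_conj τ hτ hτ1
      obtain ⟨g, rfl⟩ := C.surj γ
      have hsq : pi' * pi' = 1 := pT_facts.2.2.2.2.2.2.2
      refine ⟨g * t ^ 3 * g⁻¹, ?_, ?_⟩
      · rw [map_mul, map_mul, map_inv, map_pow, ht, pow_succ, pow_two, hsq, one_mul]
      · rw [← pow_two, conj_pow, ← pow_mul, h6, mul_one, mul_inv_cancel]
    · exact h6
  have hc := fun z (hz : C.π z = 1) => cent' C hz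
  refine ⟨C.surj, hc, fun z hz => pow6' C hC hz, hmπ, ?_, ?_, huniq, ?_, ?_⟩
  · apply Subtype.ext
    change (-1 : GL (Fin 6) F) * -1 = 1
    rw [neg_mul_neg, one_mul]
  · intro h
    have h3 := congrArg (fun y : P => (y : GL (Fin 6) F)) h
    change (-1 : GL (Fin 6) F) = 1 at h3
    rw [← sc_neg_one, ← sc_one] at h3
    have h4 := congrArg (fun y : Fˣ => (y : F)) (sc_inj h3)
    simp only [Units.val_neg, Units.val_one] at h4
    apply h2
    linear_combination -h4
  · intro t ht ht1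
    obtain ⟨γ, hγ⟩ := invol_conj _ ht ht1
    obtain ⟨g, rfl⟩ := C.surj γ
    have h3 : C.π (g⁻¹ * t * g) = pi' := by
      rw [map_mul, map_mul, map_inv, ← hγ]
      group
    have h4 := hsq0 _ h3
    rw [show g⁻¹ * t * g = g⁻¹ * t * g⁻¹⁻¹ by rw [inv_inv], conj_pow, inv_inv, mul_assoc, inv_mul_eq_iff_eq_mul,
      ← hc _ hmπ] at h4
    exact mul_right_cancel h4
  · intro x b πx πb hbx
    have : Fact (Nat.Prime 3) := ⟨by norm_num⟩
    obtain ⟨w, hw, hw1, hw3⟩ := exists_prime_scalar (P := P) (n := 3) (by rw [hn]; norm_num)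
    exact no_comm_lift C hC hw hw1 hw3 πb πx hbx

end lift

end Cfsg.Agent.H830.A6
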