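import Cfsg.Agent.H830.A6.Vec

/-!
# `6.A₆` in dimension six: existence of the frame (helper830)
-/

set_option autoImplicit false
set_option linter.unusedSectionVars false

open Module

namespace Cfsg.Agent.H830.A6

variable {F : Type*} [Field F] {V : Type*} [AddCommGroup V] [Module F V]

theorem repr_diag {M : End F V} {μ : Fin 6 → F} (b : Basis (Fin 6) F V) (hb : ∀ i, M (b i) = μ i • b i) (v : V)
    (j : Fin 6) : b.repr (M v) j = μ j * b.repr v j := by
  have : M v = ∑ i, (μ i * b.repr v i) • b i := by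
    conv_lhs => rw [← b.sum_repr v]
    rw [map_sum]
    refine Finset.sum_congr rfl fun i _ => ?_
    rw [map_smul, hb, smul_smul, mul_comm]
  rw [this, Basis.repr_sum_self]

theorem repr_zero {M : End F V} {μ : Fin 6 → F} (b : Basis (Fin 6) F V) (hb : ∀ i, M (b i) = μ i • b i) {v : V}
    {l : F} (hv : M v = l • v) {j : Fin 6} (hj : μ j ≠ l) : b.repr v j = 0 := by
  have h1 := repr_diag b hb v j
  rw [hv, map_smul, Finsupp.smul_apply, smul_eq_mul] at h1
  have h2 : (μ j - l) * b.repr v j = 0 := by linear_combination -h1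
  rcases mul_eq_zero.1 h2 with h3 | h3
  · exact absurd (sub_eq_zero.1 h3) hj
  · exact h3

theorem eq_smul {M : End F V} {μ : Fin 6 → F} (b : Basis (Fin 6) F V) (hb : ∀ i, M (b i) = μ i • b i)
    (hμ : Function.Injective μ) {v : V} {i : Fin 6} (hv : M v = μ i • v) : v = b.repr v i • b i := by
  apply b.repr.injective
  ext j
  rw [map_smul, Basis.repr_self, Finsupp.smul_apply, Finsupp.single_apply, smul_eq_mul]
  by_cases hij : i = j
  · rw [if_pos hij, mul_one, hij]
  · rw [if_neg hij, mul_zero]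
    exact repr_zero b hb hv fun h => hij (hμ h.symm)

section eig

variable {w : F} {I J K B D X : End F V} {e : Fin 6 → V}

theorem Eig.M (he : Eig w I J K B e) (i : Fin 6) : (B * (I + J + K)) (e i) = (lav w i * nuv w i) • e i := by
  rw [Rel.ap, he.N, map_smul, he.B, smul_smul, mul_comm]

theorem Eig.exists_basis (he : Eig w I J K B e) (hw : w * w + w + 1 = 0) (h2 : (2 : F) ≠ 0) (h3 : (3 : F) ≠ 0)
    (h6 : finrank F V = 6) : ∃ b : Basis (Fin 6) F V, ⇑b = e := by
  have hli : LinearIndependent F e :=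
    Module.End.eigenvectors_linearIndependent' (B * (I + J + K)) (fun i => lav w i * nuv w i) (mu_inj hw h2 h3) e
      (fun i => ⟨Module.End.mem_eigenspace_iff.2 (he.M i), he.ne i⟩)
  exact ⟨basisOfLinearIndependentOfCardEqFinrank hli (by rw [h6, Fintype.card_fin]),
    coe_basisOfLinearIndependentOfCardEqFinrank hli _⟩

theorem Rel.I_I (h : Rel w I J K B D X) (v : V) : I (I v) = -v := by
  have : I (I v) = (I * I) v := rfl
  rw [this, h.II]; rfl

theorem Rel.D_D (h : Rel w I J K B D X) (v : V) : D (D v) = -v := by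
  have : D (D v) = (D * D) v := rfl
  rw [this, h.DD]; rfl

theorem Rel.D_ne (h : Rel w I J K B D X) {v : V} (hv : v ≠ 0) : D v ≠ 0 := by
  intro h0
  apply hv
  have := h.D_D v
  rw [h0, map_zero] at this
  exact neg_eq_zero.1 this.symm

theorem Rel.D_I (h : Rel w I J K B D X) (v : V) : D (I v) = -J (D v) := by
  have : D (I v) = (D * I) v := rfl
  rw [this, h.DI]; rfl

theorem Rel.prime_ne (h : Rel w I J K B D X) (h2 : (2 : F) ≠ 0) {v : V} (hv : v ≠ 0) : v + (2 * w + 1) • I v ≠ 0 := by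
  intro h0
  have h1 : v + (2 * w + 1) • I v - (2 * w + 1) • I (v + (2 * w + 1) • I v) = (-2 : F) • v := by
    rw [map_add, map_smul, h.I_I]
    have e2 : v + (2 * w + 1) • I v - (2 * w + 1) • (I v + (2 * w + 1) • -v) = (-2 : F) • v +
      (4 * (w * w + w + 1)) • v := by module
    rw [e2, h.hw]
    simp
  rw [h0, map_zero, smul_zero, sub_zero] at h1
  rcases smul_eq_zero.1 h1.symm with h3 | h3
  · exact h2 (neg_eq_zero.1 h3)
  · exact hv h3

/-- `D` on `f'` -/
theorem Rel.D_prime (h : Rel w I J K B D X) (h2 : (2 : F) ≠ 0) {f g : V} {δ : F} (hD : D f = δ • g)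
    (hg : (I + J + K) g = -(2 * w + 1) • g) :
    D (f + (2 * w + 1) • I f) = (-(w * δ)) • ((2 * w + 1) • I g - g) := by
  rw [map_add, map_smul, h.D_I, hD, map_smul, h.J_minus h2 hg]
  have e2 : δ • g + (2 * w + 1) • -(δ • ((w * w) • g + w • I g)) = (-(w * δ)) • ((2 * w + 1) • I g - g) -
      (δ * (2 * w - 1) * (w * w + w + 1)) • g := by module
  rw [e2, h.hw]
  simp

/-- the frame -/
structure Fr (w δ : F) (I J K B D : End F V) (e : Fin 6 → V) : Prop extends Eig w I J K B e where
  hδ : 2 * w * δ * δ = 1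
  e3 : e 3 = e 0 + (2 * w + 1) • I (e 0)
  e4 : e 4 = e 1 + (2 * w + 1) • I (e 1)
  e5 : e 5 = e 2 + (2 * w + 1) • I (e 2)
  D0 : D (e 0) = δ • e 3
  D1 : D (e 1) = δ • e 5

theorem exists_frame (h : Rel w I J K B D X) (h2 : (2 : F) ≠ 0) (h3 : (3 : F) ≠ 0) (h6 : finrank F V = 6) :
    ∃ (δ : F) (e : Fin 6 → V), Fr w δ I J K B D e := by
  have hθ : (2 * w + 1) * (2 * w + 1) = -3 := h.th
  obtain ⟨f0, hf0, N0, B0⟩ := h.exists_eigen h2 h3 h6 (ν := 2 * w + 1) (l := w * w) (l' := w) hθ h.w3 h.w3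
  obtain ⟨f1, hf1, N1, B1⟩ := h.exists_eigen h2 h3 h6 (ν := 2 * w + 1) (l := 1) (l' := 1) hθ (one_mul 1) (by ring)
  have N3 := h.N_prime h2 N0
  have N4 := h.N_prime h2 N1
  have B3 := h.B_prime h2 N0 B0
  have B4 := h.B_prime h2 N1 B1
  have N5 := h.D_N N1
  have B5 := h.D_B B1
  have N2 := h.N_plus h2 N5
  have B2 := h.B_plus h2 N5 B5
  have hw3 := h.w3
  have hw := h.hw
  have hf5 : D f1 ≠ 0 := h.D_ne hf1
  have hf2 : (2 * w + 1) • I (D f1) - D f1 ≠ 0 := by
    intro h0
    have h1 := h.prime_plus (D f1)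
    rw [h0, map_zero, smul_zero, add_zero] at h1
    rcases smul_eq_zero.1 h1.symm with h4 | h4
    · exact h2 h4
    · exact hf5 h4
  -- the first frame
  have hE : Eig w I J K B ![f0, f1, (2 * w + 1) • I (D f1) - D f1, f0 + (2 * w + 1) • I f0, f1 + (2 * w + 1) • I f1,
      D f1] := by
    refine ⟨?_, ?_, ?_⟩
    · intro i
      fin_cases i
      · exact hf0
      · exact hf1
      · exact hf2
      · exact h.prime_ne h2 hf0
      · exact h.prime_ne h2 hf1
      · exact hf5
    · intro i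
      fin_cases i
      · exact N0
      · exact N1
      · exact N2
      · exact N3
      · exact N4
      · exact N5
    · intro i
      fin_cases i
      · exact B0
      · exact B1
      · refine B2.trans ?_
        rw [one_mul, one_mul]; rfl
      · refine B3.trans ?_
        rw [show w * w * (w * w) = w by linear_combination w * hw3]; rfl
      · refine B4.trans ?_
        rw [one_mul]; rfl
      · refine B5.trans ?_
        rw [one_mul]; rfl
  obtain ⟨b, hb⟩ := hE.exists_basis hw h2 h3 h6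
  have hbM : ∀ i, (B * (I + J + K)) (b i) = (lav w i * nuv w i) • b i := fun i => by rw [hb]; exact hE.M i
  have hD0 : D f0 = b.repr (D f0) 3 • b 3 := by
    refine eq_smul b hbM (mu_inj hw h2 h3) ?_
    have e1 := h.D_N N0
    have e2 := h.D_B B0
    rw [Rel.ap, e1, map_smul, e2, smul_smul]
    congr 1
    change -(2 * w + 1) * (w * w * (w * w)) = w * -(2 * w + 1)
    linear_combination (-(2 * w + 1) * w) * hw3
  set δ := b.repr (D f0) 3 with hδ
  have hb3 : b 3 = f0 + (2 * w + 1) • I f0 := by rw [hb]; rfl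
  rw [hb3] at hD0
  have hδ2 : 2 * w * δ * δ = 1 := by
    have e1 := h.D_D f0
    rw [hD0, map_smul, h.D_prime h2 hD0 N3, map_add, map_smul, h.I_I] at e1
    have e2 : δ • (-(w * δ)) • ((2 * w + 1) • (I f0 + (2 * w + 1) • -f0) - (f0 + (2 * w + 1) • I f0)) =
        (-(2 * w * δ * δ)) • f0 + (4 * w * δ * δ * (w * w + w + 1)) • f0 := by module
    rw [e2, hw, mul_zero, zero_smul, add_zero, neg_smul, neg_inj] at e1
    have e3 : (2 * w * δ * δ - 1) • f0 = 0 := by rw [sub_smul, e1, one_smul, sub_self]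
    rcases smul_eq_zero.1 e3 with h4 | h4
    · linear_combination h4
    · exact absurd h4 hf0
  have hδ0 : δ ≠ 0 := by
    intro h0
    rw [h0] at hδ2
    norm_num at hδ2
  have i2 : (2 : F)⁻¹ * 2 = 1 := inv_mul_cancel₀ h2
  refine ⟨δ, ![f0, f1, ((2 : F)⁻¹ * δ⁻¹) • ((2 * w + 1) • I (D f1) - D f1), f0 + (2 * w + 1) • I f0,
    f1 + (2 * w + 1) • I f1, δ⁻¹ • D f1], ⟨⟨?_, ?_, ?_⟩, hδ2, rfl, rfl, ?_, hD0, ?_⟩⟩
  · intro i
    fin_cases i
    · exact hf0
    · exact hf1
    · exact smul_ne_zero (mul_ne_zero (inv_ne_zero h2) (inv_ne_zero hδ0)) hf2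
    · exact h.prime_ne h2 hf0
    · exact h.prime_ne h2 hf1
    · exact smul_ne_zero (inv_ne_zero hδ0) hf5
  · intro i
    fin_cases i
    · exact N0
    · exact N1
    · change (I + J + K) (_ • _) = (2 * w + 1) • (_ • _)
      rw [map_smul, N2, smul_comm]
    · exact N3
    · exact N4
    · change (I + J + K) (_ • _) = (-(2 * w + 1)) • (_ • _)
      rw [map_smul, N5, smul_comm]
  · intro i
    fin_cases i
    · exact B0
    · exact B1
    · change B (_ • _) = w • (_ • _)
      rw [map_smul, B2, one_mul, one_mul, smul_comm]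
    · refine B3.trans ?_
      rw [show w * w * (w * w) = w by linear_combination w * hw3]; rfl
    · refine B4.trans ?_
      rw [one_mul]; rfl
    · change B (_ • _) = (1 : F) • (_ • _)
      rw [map_smul, B5, one_mul, smul_comm]
  · change δ⁻¹ • D f1 = ((2 : F)⁻¹ * δ⁻¹) • ((2 * w + 1) • I (D f1) - D f1) + (2 * w + 1) •
      I (((2 : F)⁻¹ * δ⁻¹) • ((2 * w + 1) • I (D f1) - D f1))
    rw [map_smul, smul_comm (2 * w + 1), ← smul_add, h.prime_plus, smul_smul]
    congr 1
    linear_combination (-δ⁻¹) * i2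
  · change D f1 = δ • δ⁻¹ • D f1
    rw [smul_smul, mul_inv_cancel₀ hδ0, one_smul]

end eig

end Cfsg.Agent.H830.A6
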