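import Cfsg.Agent.H830.A6.AutA

/-!
# `6.A₆` is not maximal in `SL_6`, `SU_6` (helper830)

* `not_maximal_sl6` : no maximal subgroup of `SL_6(F)` has a core `6.A₆`;
* `not_maximal_su6` : the unitary case.
-/

set_option autoImplicit false
set_option linter.unusedSectionVars false
set_option linter.dupNamespace false

open Equiv Equiv.Perm

namespace Cfsg.Agent.H830.A6

open Cfsg Cfsg.Geo Matrix Cfsg.Agent.H915.LD Cfsg.Agent.H913.N6

universe u

variable {F : Type u} [Field F] {P : Subgroup (GL (Fin 6) F)}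

theorem cent_ij : ∀ σ : A6, σ * pi' = pi' * σ → σ * pj = pj * σ → σ = 1 ∨ σ = pi' ∨ σ = pj ∨ σ = pk := by
  decide +kernel

/-- an element of `P` commuting with `i` and `j` is a scalar -/
theorem scalar_of_comm {C : Cov P A6} {m z i j k b d x : P} (hc : Cov6 C.π m) (hL : Cov6.Lft C.π m z i j k b d x)
    {s : P} (hi : s * i = i * s) (hj : s * j = j * s) : C.π s = 1 := by
  have ji : j * i = m * (i * j) := by rw [hL.ji, hL.ij]
  -- an element differing from `t` by a central element
  have key : ∀ t : P, C.π s = C.π t → t * i = i * t ∧ t * j = j * t := by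
    intro t ht
    obtain ⟨y, hy, rfl⟩ := hc.exists_z ht
    have hyc := hc.cent y hy
    constructor
    · have h1 : y * (t * i) = y * (i * t) := by
        rw [← mul_assoc, hi, ← mul_assoc, ← mul_assoc, hyc i]
      exact mul_left_cancel h1
    · have h1 : y * (t * j) = y * (j * t) := by
        rw [← mul_assoc, hj, ← mul_assoc, ← mul_assoc, hyc j]
      exact mul_left_cancel h1
  have hne : i * j ≠ j * i := by
    intro h1
    rw [ji] at h1
    exact hc.m1 (right_eq_mul.1 h1)
  rcases cent_ij (C.π s) (by rw [← hL.πi, ← map_mul, ← map_mul, hi]) (by rw [← hL.πj, ← map_mul, ← map_mul, hj]) with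
    h1 | h1 | h1 | h1
  · exact h1
  · exact absurd (key i (by rw [h1, hL.πi])).2 hne
  · exact absurd (key j (by rw [h1, hL.πj])).1.symm hne
  · exfalso
    have h2 := (key k (by rw [h1, hL.πk])).1
    rw [← hL.ij] at h2
    apply hne
    have h3 : i * (j * i) = i * (i * j) := by rw [← mul_assoc, h2]
    exact (mul_left_cancel h3).symm

theorem comm_of_sc {s t : GL (Fin 6) F} {c : Fˣ} (h : s * sc c * t = t * (s * sc c)) : s * t = t * s := by
  have h4 : s * t * sc c = t * s * sc c := by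
    calc s * t * sc c = s * (t * sc c) := mul_assoc _ _ _
      _ = s * (sc c * t) := by rw [sc_comm]
      _ = s * sc c * t := (mul_assoc _ _ _).symm
      _ = t * (s * sc c) := h
      _ = t * s * sc c := (mul_assoc _ _ _).symm
  exact mul_right_cancel h4

/-- the common part -/
theorem not_maximal [Finite F] {K H : Subgroup (GL (Fin 6) F)} (hmax : IsMaximalIn K H) (hres : IsResidualCore H P)
    (e : Soc P ≃* alternatingGroup (Fin 6)) (hn : Nat.card ((scalars (Fin 6) F).subgroupOf P) = 6)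
    (hK : ∀ g : GL (Fin 6) F, Matrix.GeneralLinearGroup.det g = 1 →
      (∀ q : ℕ, Nat.card F = q ^ 2 → P ≤ GU 6 F q → g ∈ GU 6 F q) → g ∈ K)
    (hK' : (2 : F) ≠ 0 → ∀ s, dg F s ∈ K) : False := by
  have hC := core_of_residual hres
  obtain ⟨m, z, i, j, k, b, d, x, w, g, hc, hL, hm, hz, hw, h2, h3, g3, gi, gj, xg, hdet, hsc, hU⟩ :=
    exists_g hC hn (Cov.of e)
  obtain ⟨W, hsW, hPW, hgW, hnW⟩ := exists_over (Cov.of e) hL h2 g3 gi gj xg
  have hgK : g ∈ K := hK g hdet hU
  -- `g ∉ H`
  have hgH : g ∉ H := by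
    intro hg
    obtain ⟨s, hs, c, rfl⟩ := le_scalars hres h2 hL hm hz hg
    have hci : (⟨s, hs⟩ : P) * i = i * ⟨s, hs⟩ := by
      apply Subtype.ext
      rw [Subgroup.coe_mul, Subgroup.coe_mul]
      exact comm_of_sc gi
    have hcj : (⟨s, hs⟩ : P) * j = j * ⟨s, hs⟩ := by
      apply Subtype.ext
      rw [Subgroup.coe_mul, Subgroup.coe_mul]
      exact comm_of_sc gj
    have h4 := scalar_of_comm hc hL hci hcj
    have h5 : s ∈ scalars (Fin 6) F := ((Cov.of e).ker ⟨s, hs⟩).1 h4
    exact hsc (mul_mem h5 (sc_mem_scalars c))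
  -- `H ≤ W`
  have hHW : H ≤ W := by
    intro y hy
    obtain ⟨s, hs, c, rfl⟩ := le_scalars hres h2 hL hm hz hy
    exact mul_mem (hPW hs) (hsW (sc_mem_scalars c))
  rcases hmax.2 (W ⊓ K) (le_inf hHW hmax.1.le) inf_le_right with h4 | h4
  · apply hgH
    rw [← h4]
    exact ⟨hgW, hgK⟩
  · apply hnW
    intro s
    have h5 : dg F s ∈ W ⊓ K := by rw [h4]; exact hK' h2 s
    exact h5.1

/-- **`6.A₆` in `SL_6`.** -/
theorem not_maximal_sl6 [Finite F] {H : Subgroup (GL (Fin 6) F)} (hmax : IsMaximalIn (specialLinear (Fin 6) F) H)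
    (hres : IsResidualCore H P) (e : Soc P ≃* alternatingGroup (Fin 6))
    (hn : Nat.card ((scalars (Fin 6) F).subgroupOf P) = 6) : False :=
  not_maximal hmax hres e hn (fun _ hg _ => hg) (fun _ s => det_dg s)

/-- **`6.A₆` in `SU_6`.** -/
theorem not_maximal_su6 [Fintype F] {q : ℕ} (hF : Fintype.card F = q ^ 2) {H : Subgroup (GL (Fin 6) F)}
    (hmax : IsMaximalIn (GU 6 F q ⊓ specialLinear (Fin 6) F) H)
    (hres : IsResidualCore H P) (e : Soc P ≃* alternatingGroup (Fin 6))
    (hn : Nat.card ((scalars (Fin 6) F).subgroupOf P) = 6) : False := by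
  have hPU : P ≤ GU 6 F q := (hres.le.trans hmax.1.le).trans inf_le_left
  refine not_maximal hmax hres e hn (fun g hg hU => ⟨hU q (by rw [Nat.card_eq_fintype_card, hF]) hPU, hg⟩)
    (fun h2 s => ⟨dg_mem_GU ?_ s, det_dg s⟩)
  -- `q` is odd
  rw [← Nat.not_even_iff_odd]
  intro hq
  apply h2
  have h3 : Even (Fintype.card F) := by rw [hF]; exact hq.pow_of_ne_zero (by norm_num)
  have h4 : ringChar F = 2 := FiniteField.even_card_iff_char_two.2 (Nat.even_iff.1 h3)
  have : CharP F 2 := by rw [← h4]; exact ringChar.charP F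
  exact CharP.cast_eq_zero F 2

end Cfsg.Agent.H830.A6
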