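import Cfsg.Agent.H830.A6.Frame

/-!
# `6.A₆` in dimension six: matrices (helper830)
-/

set_option autoImplicit false
set_option linter.unusedSectionVars false

open Module

namespace Cfsg.Agent.H830.A6

variable {F : Type*} [Field F]

/-- the matrix of `(2w+1) I` -/
def MI : Matrix (Fin 6) (Fin 6) F :=
  !![-1, 0, 0, 2, 0, 0; 0, -1, 0, 0, 2, 0; 0, 0, -1, 0, 0, 2; 1, 0, 0, 1, 0, 0; 0, 1, 0, 0, 1, 0; 0, 0, 1, 0, 0, 1]

/-- the matrix of `(2w+1) J` -/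
def MJ (w : F) : Matrix (Fin 6) (Fin 6) F :=
  !![-1, 0, 0, 2 * w, 0, 0; 0, -1, 0, 0, 2 * w, 0; 0, 0, -1, 0, 0, 2 * w;
    w * w, 0, 0, 1, 0, 0; 0, w * w, 0, 0, 1, 0; 0, 0, w * w, 0, 0, 1]

/-- the matrix of `(2w+1) K` -/
def MK (w : F) : Matrix (Fin 6) (Fin 6) F :=
  !![-1, 0, 0, 2 * (w * w), 0, 0; 0, -1, 0, 0, 2 * (w * w), 0; 0, 0, -1, 0, 0, 2 * (w * w);
    w, 0, 0, 1, 0, 0; 0, w, 0, 0, 1, 0; 0, 0, w, 0, 0, 1]

/-- the matrix of `B` -/
def MB (w : F) : Matrix (Fin 6) (Fin 6) F := Matrix.diagonal (lav w)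

/-- the matrix of `D` -/
def MD (w δ : F) : Matrix (Fin 6) (Fin 6) F :=
  !![0, 0, 0, -(2 * w * δ), 0, 0; 0, 0, 0, 0, 0, -(2 * w * δ); 0, 0, 0, 0, -(2 * w * δ), 0;
    δ, 0, 0, 0, 0, 0; 0, 0, δ, 0, 0, 0; 0, δ, 0, 0, 0, 0]

/-- the matrix of `X`, general form -/
def MXg (p0 p1 p2 m0 m1 m2 c0 c1 c2 d0 d1 d2 : F) : Matrix (Fin 6) (Fin 6) F :=
  !![0, 0, p0, c0, 0, 0; p1, 0, 0, 0, c1, 0; 0, p2, 0, 0, 0, c2; 0, d0, 0, 0, 0, m0; 0, 0, d1, m1, 0, 0;
    d2, 0, 0, 0, m2, 0]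

/-- the matrix of `X⁻¹`, general form (`2 w u = 1`) -/
def MYg (w u p0 p1 p2 m0 m1 m2 c0 c1 c2 d0 d1 d2 : F) : Matrix (Fin 6) (Fin 6) F :=
  !![0, m0, 0, 0, 0, -(2 * w * d0); 0, 0, m2, -(2 * w * d2), 0, 0; m1, 0, 0, 0, -(2 * w * d1), 0;
    -(u * c0), 0, 0, 0, p0, 0; 0, -(u * c2), 0, 0, 0, p2; 0, 0, -(u * c1), p1, 0, 0]

theorem final {p m C E : F} (h2 : (2:F) ≠ 0) (h3 : (3:F) ≠ 0) 
  (hΔ : p * m + 2 * C * E = 1) (g35 : m * (2 * p + 2 * C + 1) = 0) (g53 : p * (2 * m + 2 * E + 1) = 0)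
  (g11 : p * E + m * C + 2 * (C * C + E * E) = 0)
  (g33 : p * m * (C + E) - p * p * E - m * m * C + 2 * (p * E + m * C) = C + E)
  (g44 : 3 * (p * m * (C + E) - p * p * E - m * m * C) = C + E) :
  6 * p * p = -1 ∧ m = -p ∧ 2 * C = -(1 + 2 * p) ∧ 2 * E = 2 * p - 1 := by
  have hQR : p * m * (C + E) - p * p * E - m * m * C = p * E + m * C := by
    have : (2 : F) * ((p * m * (C + E) - p * p * E - m * m * C) - (p * E + m * C)) = 0 := by
      linear_combination g44 - g33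
    have := (mul_eq_zero.1 this).resolve_left h2
    linear_combination this
  have hR : C + E = 3 * (p * E + m * C) := by linear_combination 3 * hQR - g44
  by_cases hm : m = 0
  · exfalso
    subst hm
    have hE : E ≠ 0 := by rintro rfl; norm_num at hΔ
    have hC : C ≠ 0 := by rintro rfl; norm_num at hΔ
    have h4 : p * (p + 1) = 0 := by
      have : (p * (p + 1)) * E = 0 := by linear_combination -hQR
      exact (mul_eq_zero.1 this).resolve_right hE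
    rcases mul_eq_zero.1 h4 with h5 | h5
    · subst h5
      have h6 : E = -C := by linear_combination hR
      rw [h6] at g11
      have h7 : (2 * 2 * C) * C = 0 := by linear_combination g11
      exact mul_ne_zero (mul_ne_zero (mul_ne_zero h2 h2) hC) hC h7
    · have h6 : p = -1 := by linear_combination h5
      subst h6
      have h7 : 2 * E = -1 := by linear_combination -g53
      have h8 : C = -1 := by linear_combination -hΔ + C * h7
      apply h3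
      linear_combination -hR + h8 + 2 * h7
  · have hC2 : 2 * C = -(1 + 2 * p) := by
      have := (mul_eq_zero.1 g35).resolve_left hm
      linear_combination this
    by_cases hp : p = 0
    · exfalso
      subst hp
      have h8 : E = -1 := by linear_combination -hΔ + E * hC2
      have hC : C ≠ 0 := by rintro rfl; norm_num at hΔ
      have h4 : m * (m + 1) = 0 := by
        have : (m * (m + 1)) * C = 0 := by linear_combination -hQR
        exact (mul_eq_zero.1 this).resolve_right hC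
      have h5 := (mul_eq_zero.1 h4).resolve_left hm
      have h6 : m = -1 := by linear_combination h5
      subst h6
      apply h3
      linear_combination -hR + h8 + 2 * hC2
    · have hE2 : 2 * E = -(1 + 2 * m) := by
        have := (mul_eq_zero.1 g53).resolve_left hp
        linear_combination this
      have k1 : 6 * p * m + 2 * p + 2 * m = 1 := by
        linear_combination 2 * hΔ - 2 * E * hC2 + (1 + 2 * p) * hE2
      have k2 : 12 * p * m + p + m = 2 := by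
        linear_combination 2 * hR - (1 - 3 * m) * hC2 - (1 - 3 * p) * hE2
      have k3 : m = -p := by
        have : (3 : F) * (p + m) = 0 := by linear_combination 2 * k1 - k2
        have := (mul_eq_zero.1 this).resolve_left h3
        linear_combination this
      subst k3
      refine ⟨by linear_combination -k1, rfl, hC2, by linear_combination hE2⟩

/-- the matrix of `X` (`2 z = 1`, `6 p² = -1`) -/
def MX (w p z : F) : Matrix (Fin 6) (Fin 6) F :=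
  !![0, 0, -(2 * p), -(2 * (w * w) * p), 0, 0; p, 0, 0, 0, w * w * (1 - 2 * p), 0;
    0, p, 0, 0, 0, -(w * w * (1 + 2 * p)); 0, z * w * (1 - 2 * p), 0, 0, 0, -p; 0, 0, -(w * p), 2 * p, 0, 0;
    -(z * w * (1 + 2 * p)), 0, 0, 0, -p, 0]

theorem solve {w u z p0 p1 p2 m0 m1 m2 c0 c1 c2 d0 d1 d2 : F} (hw : w * w + w + 1 = 0) (hu : 2 * w * u = 1)
    (hz : 2 * z = 1)
    (h2 : (2 : F) ≠ 0) (h3 : (3 : F) ≠ 0) (hΔ : p2 * m0 - c2 * d0 = 1)
    (hXX : MXg p0 p1 p2 m0 m1 m2 c0 c1 c2 d0 d1 d2 * MXg p0 p1 p2 m0 m1 m2 c0 c1 c2 d0 d1 d2 =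
      MYg w u p0 p1 p2 m0 m1 m2 c0 c1 c2 d0 d1 d2)
    (hXY : MXg p0 p1 p2 m0 m1 m2 c0 c1 c2 d0 d1 d2 * MYg w u p0 p1 p2 m0 m1 m2 c0 c1 c2 d0 d1 d2 = 1)
    (hC : MXg p0 p1 p2 m0 m1 m2 c0 c1 c2 d0 d1 d2 * MK w * (MXg p0 p1 p2 m0 m1 m2 c0 c1 c2 d0 d1 d2 * MK w) =
      -(MK w * MYg w u p0 p1 p2 m0 m1 m2 c0 c1 c2 d0 d1 d2 * (MK w * MYg w u p0 p1 p2 m0 m1 m2 c0 c1 c2 d0 d1 d2))) :
    6 * p2 * p2 = -1 ∧ MXg p0 p1 p2 m0 m1 m2 c0 c1 c2 d0 d1 d2 = MX w p2 z := by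
  have e1 := congrFun (congrFun hXY 2) 2
  have e2 := congrFun (congrFun hXY 3) 2
  have e3 := congrFun (congrFun hXY 2) 3
  have e4 := congrFun (congrFun hXY 3) 3
  have e5 := congrFun (congrFun hXX 0) 1
  have e6 := congrFun (congrFun hXX 4) 1
  have e7 := congrFun (congrFun hXX 0) 5
  have e8 := congrFun (congrFun hXX 4) 5
  have f35 := congrFun (congrFun hC 3) 5
  have f53 := congrFun (congrFun hC 5) 3
  have f11 := congrFun (congrFun hC 1) 1
  have f33 := congrFun (congrFun hC 3) 3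
  have f44 := congrFun (congrFun hC 4) 4
  clear hXX hXY hC
  simp [MXg, MYg, MK, Matrix.mul_apply, Fin.sum_univ_six] at e1 e2 e3 e4 e5 e6 e7 e8 f35 f53 f11 f33 f44
  have hw3 : w * w * w = 1 := by linear_combination (w - 1) * hw
  -- the variables `C`, `E`
  obtain ⟨C, hC⟩ : ∃ C, C = z * w * c2 := ⟨_, rfl⟩
  obtain ⟨E, hE⟩ : ∃ E, E = -(w * w * d0) := ⟨_, rfl⟩
  have hc2 : c2 = 2 * (w * w) * C := by rw [hC]; linear_combination (-c2) * hw3 - (w * w * w * c2) * hz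
  have hd0 : d0 = -(w * E) := by rw [hE]; linear_combination (-d0) * hw3
  have huc2 : u * c2 = w * C := by rw [hc2]; linear_combination (w * C) * hu
  have a1 : m2 = m0 := by linear_combination m0 * e1 - c2 * e2 - m2 * hΔ
  have a2 : u * c1 = d0 := by linear_combination d0 * e1 - p2 * e2 - (u * c1) * hΔ
  have a3 : c1 = 2 * w * d0 := by linear_combination (2 * w) * a2 - c1 * hu
  have a4 : p1 = p2 := by linear_combination p2 * e4 - d0 * e3 - p1 * hΔ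
  have a5 : 2 * w * d2 = c2 := by linear_combination c2 * e4 - m0 * e3 - (2 * w * d2) * hΔ
  have a6 : d2 = w * C := by rw [← huc2]; linear_combination u * a5 - d2 * hu
  have a7 : p0 = m0 * m0 + 2 * w * d0 * d0 := by linear_combination m0 * e5 - d0 * e7 - p0 * hΔ
  have a8 : c0 = -(2 * w * d0 * p2) - c2 * m0 := by linear_combination p2 * e7 - c2 * e5 - c0 * hΔ
  have a9 : d1 = -(m0 * (u * c2)) - d0 * p2 := by linear_combination m0 * e6 - d0 * e8 - d1 * hΔ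
  have a10 : m1 = p2 * p2 + u * c2 * c2 := by linear_combination p2 * e8 - c2 * e6 - m1 * hΔ
  clear hC hE e1 e2 e3 e4 e5 e6 e7 e8
  rw [huc2] at a9 a10 f11
  have a11 : u * c0 = w * E * p2 - w * C * m0 := by
    rw [a8, hd0, hc2]; linear_combination (w * (E * p2 - C * m0)) * hu
  rw [a11] at f35
  rw [a2] at f53
  have b1 := a1.symm
  have b4 := a4.symm
  clear a1 a4
  subst b1 a3 b4 a6 a7 a8 a9 a10 hc2 hd0
  have hΔ' : p2 * m0 + 2 * C * E = 1 := by linear_combination hΔ - (2 * C * E) * hw3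
  have g35 : m0 * (2 * p2 + 2 * C + 1) = 0 := by
    linear_combination f35 - (-4 * w ^ 3 * p2 * E ^ 2 + 4 * w ^ 3 * m0 * C * E + 2 * p2 * m0 + 2 * m0 * C * E + 2 * m0 * C) * hw3 - m0 * hΔ'
  have g53 : p2 * (2 * m0 + 2 * E + 1) = 0 := by
    linear_combination f53 - (4 * w ^ 3 * p2 * C * E - 4 * w ^ 3 * m0 * C ^ 2 + 2 * p2 * m0 + 2 * p2 * C * E + 2 * p2 * E) * hw3 - p2 * hΔ'
  have g11 : p2 * E + m0 * C + 2 * (C * C + E * E) = 0 := by
    linear_combination z * f11 - z * (4 * w ^ 3 * C ^ 2 + 4 * w ^ 3 * E ^ 2 + 2 * p2 * E + 2 * m0 * C + 4 * C ^ 2 + 4 * E ^ 2) * hw3 - (p2 * E + m0 * C + 2 * (C * C + E * E)) * hz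
  have g33 : p2 * m0 * (C + E) - p2 * p2 * E - m0 * m0 * C + 2 * (p2 * E + m0 * C) = C + E := by
    linear_combination z * f33 - z * (-4 * w ^ 3 * C ^ 2 * E - 4 * w ^ 3 * C * E ^ 2 - 2 * p2 ^ 2 * E + 4 * p2 * E - 2 * m0 ^ 2 * C + 4 * m0 * C - 4 * C ^ 2 * E - 4 * C * E ^ 2) * hw3 + (C + E) * hΔ' -
      (- p2 ^ 2 * E + 2 * p2 * E - m0 ^ 2 * C + 2 * m0 * C - 2 * C ^ 2 * E - 2 * C * E ^ 2) * hz
  have g44 : 3 * (p2 * m0 * (C + E) - p2 * p2 * E - m0 * m0 * C) = C + E := by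
    linear_combination z * f44 - z * (-4 * w ^ 3 * C ^ 2 * E - 4 * w ^ 3 * C * E ^ 2 - 6 * p2 ^ 2 * E + 4 * p2 * m0 * C + 4 * p2 * m0 * E - 6 * m0 ^ 2 * C - 4 * C ^ 2 * E - 4 * C * E ^ 2) * hw3 + (C + E) * hΔ' -
      (- 3 * p2 ^ 2 * E + 2 * p2 * m0 * C + 2 * p2 * m0 * E - 3 * m0 ^ 2 * C - 2 * C ^ 2 * E - 2 * C * E ^ 2) * hz
  obtain ⟨r1, r2, r3, r4⟩ := final h2 h3 hΔ' g35 g53 g11 g33 g44
  refine ⟨r1, ?_⟩
  have s3 : C = -(z * (1 + 2 * p2)) := by linear_combination z * r3 - C * hz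
  have s4 : E = z * (2 * p2 - 1) := by linear_combination z * r4 - E * hz
  clear hΔ hΔ' g35 g53 g11 g33 g44 f35 f53 f11 f33 f44 a2 a5 a11 huc2
  subst r2 s3 s4
  have q1 : -p2 * -p2 + 2 * w * -(w * (z * (2 * p2 - 1))) * -(w * (z * (2 * p2 - 1))) = -(2 * p2) := by
    linear_combination (2 * z ^ 2 * (2 * p2 - 1) ^ 2) * hw3 + (z * (2 * p2 - 1) ^ 2 + 2 * p2 ^ 2 - 2 * p2 - 3 * p2 ^ 2) * hz +
      z * r1
  have q2 : p2 * p2 + w * -(z * (1 + 2 * p2)) * (2 * (w * w) * -(z * (1 + 2 * p2))) = 2 * p2 := by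
    linear_combination (2 * z ^ 2 * (2 * p2 + 1) ^ 2) * hw3 + (z * (2 * p2 + 1) ^ 2 + 2 * p2 ^ 2 + 2 * p2 - 3 * p2 ^ 2) * hz +
      z * r1
  have q3 : -(2 * w * -(w * (z * (2 * p2 - 1))) * p2) - 2 * (w * w) * -(z * (1 + 2 * p2)) * -p2 = -(2 * (w * w) * p2) := by
    linear_combination (-2 * w ^ 2 * p2) * hz
  have q4 : -(-p2 * (w * -(z * (1 + 2 * p2)))) - -(w * (z * (2 * p2 - 1))) * p2 = -(w * p2) := by
    linear_combination (-w * p2) * hz
  have q5 : 2 * (w * w) * -(z * (1 + 2 * p2)) = -(w * w * (1 + 2 * p2)) := by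
    linear_combination (-w ^ 2 * (1 + 2 * p2)) * hz
  have q6 : -(w * (z * (2 * p2 - 1))) = z * w * (1 - 2 * p2) := by ring
  have q7 : w * -(z * (1 + 2 * p2)) = -(z * w * (1 + 2 * p2)) := by ring
  have q8 : 2 * w * -(w * (z * (2 * p2 - 1))) = w * w * (1 - 2 * p2) := by
    linear_combination (w ^ 2 * (1 - 2 * p2)) * hz
  unfold MXg MX
  rw [q1, q2, q3, q4, q8, q5, q6, q7]

end Cfsg.Agent.H830.A6
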