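import Cfsg.Agent.H830.A6.Mat

/-!
# `6.A₆` in dimension six: the normal form (helper830)
-/

set_option autoImplicit false
set_option linter.unusedSectionVars false

open Module

namespace Cfsg.Agent.H830.A6

variable {F : Type*} [Field F] {V : Type*} [AddCommGroup V] [Module F V] {w δ : F} {I J K B D X : End F V}
  {e : Fin 6 → V}

section pair

variable (h : Rel w I J K B D X) (h2 : (2 : F) ≠ 0) {f g : V} (hf : (I + J + K) f = (2 * w + 1) • f)
  (hg : g = f + (2 * w + 1) • I f)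
include h h2 hf hg

theorem pIf : (2 * w + 1) • I f = g - f := by rw [hg]; abel

theorem pIg : (2 * w + 1) • I g = (2 : F) • f + g := by
  rw [hg, map_add, map_smul, h.I_I]
  have e2 : (2 * w + 1) • (I f + (2 * w + 1) • -f) = (2 : F) • f + (f + (2 * w + 1) • I f) -
      (4 * (w * w + w + 1)) • f := by module
  rw [e2, h.hw]
  simp

theorem pJf : (2 * w + 1) • J f = (w * w) • g - f := by
  rw [h.J_plus h2 hf, hg]
  have e2 : (2 * w + 1) • (w • f + (w * w) • I f) = (w * w) • (f + (2 * w + 1) • I f) - f +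
      (w * w + w + 1) • f := by module
  rw [e2, h.hw]
  simp

theorem pJg : (2 * w + 1) • J g = (2 * w) • f + g := by
  rw [h.J_minus h2 (by rw [hg]; exact h.N_prime h2 hf), smul_add, smul_comm (2 * w + 1) w, pIg h h2 hf hg, hg]
  have e2 : (2 * w + 1) • (w * w) • (f + (2 * w + 1) • I f) + w • ((2 : F) • f + (f + (2 * w + 1) • I f)) =
      (2 * w) • f + (f + (2 * w + 1) • I f) + ((2 * w - 1) * (w * w + w + 1)) • (f + (2 * w + 1) • I f) := by module
  rw [e2, h.hw]
  simp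

theorem pKf : (2 * w + 1) • K f = w • g - f := by
  rw [h.K_plus h2 hf, hg]
  have e2 : (2 * w + 1) • (-(w * w) • f + w • I f) = w • (f + (2 * w + 1) • I f) - f -
      ((2 * w - 1) * (w * w + w + 1)) • f := by module
  rw [e2, h.hw]
  simp

theorem pKg : (2 * w + 1) • K g = (2 * (w * w)) • f + g := by
  rw [h.K_minus h2 (by rw [hg]; exact h.N_prime h2 hf), smul_add, smul_comm (2 * w + 1) (w * w), pIg h h2 hf hg, hg]
  have e2 : (2 * w + 1) • -w • (f + (2 * w + 1) • I f) + (w * w) • ((2 : F) • f + (f + (2 * w + 1) • I f)) =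
      (2 * (w * w)) • f + (f + (2 * w + 1) • I f) - (w * w + w + 1) • (f + (2 * w + 1) • I f) := by module
  rw [e2, h.hw]
  simp

end pair

section frame

theorem Fr.n0 (he : Fr w δ I J K B D e) : (I + J + K) (e 0) = (2 * w + 1) • e 0 := he.N 0
theorem Fr.n1 (he : Fr w δ I J K B D e) : (I + J + K) (e 1) = (2 * w + 1) • e 1 := he.N 1
theorem Fr.n2 (he : Fr w δ I J K B D e) : (I + J + K) (e 2) = (2 * w + 1) • e 2 := he.N 2

theorem Fr.D3 (he : Fr w δ I J K B D e) (h : Rel w I J K B D X) (h2 : (2 : F) ≠ 0) :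
    D (e 3) = -(2 * w * δ) • e 0 := by
  have h1 := h.D_prime h2 he.D0 (he.N 3)
  rw [← he.e3, pIg h h2 he.n0 he.e3] at h1
  rw [h1]; module

theorem Fr.D5 (he : Fr w δ I J K B D e) (h : Rel w I J K B D X) :
    D (e 5) = -(2 * w * δ) • e 1 := by
  have h1 := congrArg (fun v => (2 * w * δ) • D v) he.D1
  simp only [h.D_D, map_smul] at h1
  rw [smul_smul, he.hδ, one_smul] at h1
  rw [← h1]; module

theorem Fr.D4 (he : Fr w δ I J K B D e) (h : Rel w I J K B D X) (h2 : (2 : F) ≠ 0) :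
    D (e 4) = -(2 * w * δ) • e 2 := by
  have h1 := h.D_prime h2 he.D1 (he.N 5)
  rw [← he.e4, pIg h h2 he.n2 he.e5] at h1
  rw [h1]; module

theorem Fr.D2 (he : Fr w δ I J K B D e) (h : Rel w I J K B D X) (h2 : (2 : F) ≠ 0) :
    D (e 2) = δ • e 4 := by
  have h1 := congrArg (fun v => δ • D v) (he.D4 h h2)
  simp only [h.D_D, map_smul] at h1
  rw [smul_smul, show δ * -(2 * w * δ) = -1 by linear_combination -he.hδ] at h1
  rw [neg_one_smul, smul_neg, neg_inj] at h1
  exact h1.symm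

/-- rescaling the frame -/
theorem Fr.scale (he : Fr w δ I J K B D e) {c : F} (hc : c ≠ 0) :
    Fr w δ I J K B D ![c • e 0, e 1, e 2, c • e 3, e 4, e 5] := by
  refine ⟨⟨?_, ?_, ?_⟩, he.hδ, ?_, he.e4, he.e5, ?_, he.D1⟩
  · intro i
    fin_cases i
    · exact smul_ne_zero hc (he.ne 0)
    · exact he.ne 1
    · exact he.ne 2
    · exact smul_ne_zero hc (he.ne 3)
    · exact he.ne 4
    · exact he.ne 5
  · intro i
    fin_cases i
    · change (I + J + K) (c • e 0) = (2 * w + 1) • (c • e 0)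
      rw [map_smul, he.n0, smul_comm]
    · exact he.N 1
    · exact he.N 2
    · change (I + J + K) (c • e 3) = (-(2 * w + 1)) • (c • e 3)
      rw [map_smul, he.N 3, smul_comm]; rfl
    · exact he.N 4
    · exact he.N 5
  · intro i
    fin_cases i
    · change B (c • e 0) = (w * w) • (c • e 0)
      rw [map_smul, he.B 0, smul_comm]; rfl
    · exact he.B 1
    · exact he.B 2
    · change B (c • e 3) = w • (c • e 3)
      rw [map_smul, he.B 3, smul_comm]; rfl
    · exact he.B 4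
    · exact he.B 5
  · change c • e 3 = c • e 0 + (2 * w + 1) • I (c • e 0)
    rw [he.e3, map_smul, smul_add, smul_comm c]
  · change D (c • e 0) = δ • (c • e 3)
    rw [map_smul, he.D0, smul_comm]

/-- `X` maps eigenspaces of `B` to eigenspaces -/
theorem Rel.B_X (h : Rel w I J K B D X) {v : V} {l : F} (hv : B v = l • v) : B (X v) = (w * l) • X v := by
  have e1 : B (X v) = (B * X) v := rfl
  rw [e1, h.BX, LinearMap.smul_apply, Rel.ap, hv, map_smul, smul_smul]

theorem span_one (hw : w * w + w + 1 = 0) (h3 : (3 : F) ≠ 0) (b : Basis (Fin 6) F V)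
    (hb : ∀ i, B (b i) = lav w i • b i) {v : V} (hv : B v = v) : v = b.repr v 1 • b 1 + b.repr v 5 • b 5 := by
  have hw1 : w ≠ 1 := by
    intro h; apply h3; rw [h] at hw; linear_combination hw
  have hww : w * w ≠ 1 := by
    intro h; apply hw1; linear_combination (w - 1) * hw - w * h
  have hv' : B v = (1 : F) • v := by rw [hv, one_smul]
  conv_lhs => rw [← b.sum_repr v]
  rw [Fin.sum_univ_six, repr_zero b hb hv' (j := 0) hww, repr_zero b hb hv' (j := 2) hw1,
    repr_zero b hb hv' (j := 3) hw1, repr_zero b hb hv' (j := 4) hww]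
  simp

theorem span_w (hw : w * w + w + 1 = 0) (h3 : (3 : F) ≠ 0) (b : Basis (Fin 6) F V)
    (hb : ∀ i, B (b i) = lav w i • b i) {v : V} (hv : B v = w • v) : v = b.repr v 2 • b 2 + b.repr v 3 • b 3 := by
  have hw1 : w ≠ 1 := by
    intro h; apply h3; rw [h] at hw; linear_combination hw
  have hww : w * w ≠ w := by
    intro h; apply hw1; linear_combination (w - 1) * hw - (w + 1) * h
  conv_lhs => rw [← b.sum_repr v]
  rw [Fin.sum_univ_six, repr_zero b hb hv (j := 0) hww, repr_zero b hb hv (j := 1) hw1.symm,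
    repr_zero b hb hv (j := 4) hww, repr_zero b hb hv (j := 5) hw1.symm]
  simp

theorem span_ww (hw : w * w + w + 1 = 0) (h3 : (3 : F) ≠ 0) (b : Basis (Fin 6) F V)
    (hb : ∀ i, B (b i) = lav w i • b i) {v : V} (hv : B v = (w * w) • v) : v = b.repr v 0 • b 0 + b.repr v 4 • b 4 := by
  have hw1 : w ≠ 1 := by
    intro h; apply h3; rw [h] at hw; linear_combination hw
  have hww : w * w ≠ w := by
    intro h; apply hw1; linear_combination (w - 1) * hw - (w + 1) * h
  have hww1 : w * w ≠ 1 := by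
    intro h; apply hw1; linear_combination (w - 1) * hw - w * h
  conv_lhs => rw [← b.sum_repr v]
  rw [Fin.sum_univ_six, repr_zero b hb hv (j := 1) hww1.symm, repr_zero b hb hv (j := 2) hww.symm,
    repr_zero b hb hv (j := 3) hww.symm, repr_zero b hb hv (j := 5) hww1.symm]
  simp

/-- the form of `X` in a frame -/
structure XF (X : End F V) (e : Fin 6 → V) (p0 p1 p2 m0 m1 m2 c0 c1 c2 d0 d1 d2 : F) : Prop where
  x0 : X (e 0) = p1 • e 1 + d2 • e 5
  x1 : X (e 1) = p2 • e 2 + d0 • e 3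
  x2 : X (e 2) = p0 • e 0 + d1 • e 4
  x3 : X (e 3) = c0 • e 0 + m1 • e 4
  x4 : X (e 4) = c1 • e 1 + m2 • e 5
  x5 : X (e 5) = c2 • e 2 + m0 • e 3

theorem Fr.exists_XF (he : Fr w δ I J K B D e) (h : Rel w I J K B D X) (h2 : (2 : F) ≠ 0) (h3 : (3 : F) ≠ 0)
    (h6 : finrank F V = 6) : ∃ p0 p1 p2 m0 m1 m2 c0 c1 c2 d0 d1 d2 : F,
      XF X e p0 p1 p2 m0 m1 m2 c0 c1 c2 d0 d1 d2 := by
  obtain ⟨b, hb⟩ := he.exists_basis h.hw h2 h3 h6
  have hbB : ∀ i, B (b i) = lav w i • b i := fun i => by rw [hb]; exact he.B i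
  have hw3 := h.w3
  have s0 := span_one h.hw h3 b hbB (v := X (b 0)) (by
    rw [h.B_X (hbB 0)]
    change (w * (w * w)) • _ = _
    rw [← mul_assoc, hw3, one_smul])
  have s4 := span_one h.hw h3 b hbB (v := X (b 4)) (by
    rw [h.B_X (hbB 4)]
    change (w * (w * w)) • _ = _
    rw [← mul_assoc, hw3, one_smul])
  have s1 := span_w h.hw h3 b hbB (v := X (b 1)) (by
    rw [h.B_X (hbB 1)]
    change (w * 1) • _ = _
    rw [mul_one])
  have s5 := span_w h.hw h3 b hbB (v := X (b 5)) (by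
    rw [h.B_X (hbB 5)]
    change (w * 1) • _ = _
    rw [mul_one])
  have s2 := span_ww h.hw h3 b hbB (v := X (b 2)) (h.B_X (hbB 2))
  have s3 := span_ww h.hw h3 b hbB (v := X (b 3)) (h.B_X (hbB 3))
  rw [hb] at s0 s1 s2 s3 s4 s5
  exact ⟨_, _, _, _, _, _, _, _, _, _, _, _, ⟨s0, s1, s2, s3, s4, s5⟩⟩

theorem Rel.X_inj (h : Rel w I J K B D X) {v : V} (hv : X v = 0) : v = 0 := by
  have : (X * X * X) v = v := by rw [h.XXX]; rfl
  rw [← this]
  change X (X (X v)) = 0
  rw [hv, map_zero, map_zero]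

theorem XF.det_ne (h : Rel w I J K B D X) {p0 p1 p2 m0 m1 m2 c0 c1 c2 d0 d1 d2 : F}
    (hX : XF X e p0 p1 p2 m0 m1 m2 c0 c1 c2 d0 d1 d2) {b : Basis (Fin 6) F V} (hb : ⇑b = e) : p2 * m0 - c2 * d0 ≠ 0 := by
  intro h0
  have hli : ∀ x y : F, x • e 1 + y • e 5 = 0 → x = 0 ∧ y = 0 := by
    intro x y hxy
    rw [← hb] at hxy
    have e1 := congrArg (fun v => b.repr v 1) hxy
    have e5 := congrArg (fun v => b.repr v 5) hxy
    simp at e1 e5
    exact ⟨e1, e5⟩
  have k1 : X (m0 • e 1 + (-d0) • e 5) = (p2 * m0 - c2 * d0) • e 2 := by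
    rw [map_add, map_smul, map_smul, hX.x1, hX.x5]; module
  have k2 : X ((-c2) • e 1 + p2 • e 5) = (p2 * m0 - c2 * d0) • e 3 := by
    rw [map_add, map_smul, map_smul, hX.x1, hX.x5]; module
  rw [h0, zero_smul] at k1 k2
  obtain ⟨l1, l2⟩ := hli _ _ (h.X_inj k1)
  obtain ⟨l3, l4⟩ := hli _ _ (h.X_inj k2)
  have k3 := hX.x1
  rw [l4, neg_eq_zero.1 l2, zero_smul, zero_smul, add_zero] at k3
  have k4 := h.X_inj k3
  have := (hli 1 0 (by rw [k4, smul_zero, zero_smul, add_zero])).1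
  exact one_ne_zero this

/-- the normalised frame -/
theorem exists_normal (h : Rel w I J K B D X) (h2 : (2 : F) ≠ 0) (h3 : (3 : F) ≠ 0)
    (h6 : finrank F V = 6) : ∃ (δ : F) (e : Fin 6 → V), Fr w δ I J K B D e ∧
      ∃ p0 p1 p2 m0 m1 m2 c0 c1 c2 d0 d1 d2 : F, p2 * m0 - c2 * d0 = 1 ∧
        XF X e p0 p1 p2 m0 m1 m2 c0 c1 c2 d0 d1 d2 := by
  obtain ⟨δ, e, he⟩ := exists_frame h h2 h3 h6
  obtain ⟨p0, p1, p2, m0, m1, m2, c0, c1, c2, d0, d1, d2, hX⟩ := he.exists_XF h h2 h3 h6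
  obtain ⟨b, hb⟩ := he.exists_basis h.hw h2 h3 h6
  have hne := hX.det_ne h hb
  refine ⟨δ, _, he.scale hne, ?_⟩
  set c := p2 * m0 - c2 * d0 with hc
  refine ⟨c⁻¹ * p0, c * p1, p2, c⁻¹ * m0, c * m1, m2, c0, c1, c2, c⁻¹ * d0, d1, c * d2, ?_, ⟨?_, ?_, ?_, ?_, ?_, ?_⟩⟩
  · rw [show p2 * (c⁻¹ * m0) - c2 * (c⁻¹ * d0) = c⁻¹ * (p2 * m0 - c2 * d0) by ring, ← hc, inv_mul_cancel₀ hne]
  · change X (c • e 0) = (c * p1) • e 1 + (c * d2) • e 5
    rw [map_smul, hX.x0, smul_add, smul_smul, smul_smul]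
  · change X (e 1) = p2 • e 2 + (c⁻¹ * d0) • (c • e 3)
    rw [hX.x1, smul_smul, mul_right_comm, inv_mul_cancel₀ hne, one_mul]
  · change X (e 2) = (c⁻¹ * p0) • (c • e 0) + d1 • e 4
    rw [hX.x2, smul_smul, mul_right_comm, inv_mul_cancel₀ hne, one_mul]
  · change X (c • e 3) = c0 • (c • e 0) + (c * m1) • e 4
    rw [map_smul, hX.x3, smul_add, smul_smul, smul_smul, smul_smul, mul_comm c c0]
  · change X (e 4) = c1 • e 1 + m2 • e 5
    exact hX.x4
  · change X (e 5) = c2 • e 2 + (c⁻¹ * m0) • (c • e 3)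
    rw [hX.x5, smul_smul, mul_right_comm, inv_mul_cancel₀ hne, one_mul]

/-- matrices -/
theorem toMat {T : End F V} (b : Basis (Fin 6) F V) {M : Matrix (Fin 6) (Fin 6) F}
    (h : ∀ j, T (b j) = ∑ i, M i j • b i) : LinearMap.toMatrixAlgEquiv b T = M := by
  ext i j
  rw [LinearMap.toMatrixAlgEquiv_apply, h, Basis.repr_sum_self]

set_option maxHeartbeats 2000000 in
theorem DXD_eq {p0 p1 p2 m0 m1 m2 c0 c1 c2 d0 d1 d2 : F} (hδ : 2 * w * δ * δ = 1) :
    -(MD w δ * MXg p0 p1 p2 m0 m1 m2 c0 c1 c2 d0 d1 d2 * MD w δ) =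
      MYg w (δ * δ) p0 p1 p2 m0 m1 m2 c0 c1 c2 d0 d1 d2 := by
  ext i j
  fin_cases i <;> fin_cases j <;> simp [MD, MXg, MYg, Matrix.mul_apply, Fin.sum_univ_six] <;> first
    | linear_combination (m0) * hδ
    | linear_combination (m1) * hδ
    | linear_combination (m2) * hδ
    | linear_combination (p0) * hδ
    | linear_combination (p1) * hδ
    | linear_combination (p2) * hδ
    | linear_combination (2 * w * d0) * hδ
    | linear_combination (2 * w * d1) * hδ
    | linear_combination (2 * w * d2) * hδ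
    | linear_combination (-2 * w * d0) * hδ
    | linear_combination (-2 * w * d1) * hδ
    | linear_combination (-2 * w * d2) * hδ
    | ring

set_option maxHeartbeats 1000000 in
/-- **The normal form.** -/
theorem normal_form (h : Rel w I J K B D X) (h2 : (2 : F) ≠ 0) (h3 : (3 : F) ≠ 0)
    (h6 : finrank F V = 6) {z : F} (hz : 2 * z = 1) : ∃ (b : Basis (Fin 6) F V) (p δ : F), Eig w I J K B b ∧ 6 * p * p = -1 ∧
      2 * w * δ * δ = 1 ∧
      (2 * w + 1) • LinearMap.toMatrixAlgEquiv b I = MI ∧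
      (2 * w + 1) • LinearMap.toMatrixAlgEquiv b J = MJ w ∧
      (2 * w + 1) • LinearMap.toMatrixAlgEquiv b K = MK w ∧
      LinearMap.toMatrixAlgEquiv b B = MB w ∧
      LinearMap.toMatrixAlgEquiv b D = MD w δ ∧
      LinearMap.toMatrixAlgEquiv b X = MX w p z := by
  obtain ⟨δ, e, he, p0, p1, p2, m0, m1, m2, c0, c1, c2, d0, d1, d2, hΔ, hX⟩ := exists_normal h h2 h3 h6
  obtain ⟨b, hb⟩ := he.exists_basis h.hw h2 h3 h6
  have hδ := he.hδ
  have mI : LinearMap.toMatrixAlgEquiv b ((2 * w + 1) • I) = MI := by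
    refine toMat b fun j => ?_
    rw [hb, LinearMap.smul_apply]
    fin_cases j
    · exact (pIf h h2 he.n0 he.e3).trans (by simp [MI, Fin.sum_univ_six]; abel)
    · exact (pIf h h2 he.n1 he.e4).trans (by simp [MI, Fin.sum_univ_six]; abel)
    · exact (pIf h h2 he.n2 he.e5).trans (by simp [MI, Fin.sum_univ_six]; abel)
    · exact (pIg h h2 he.n0 he.e3).trans (by simp [MI, Fin.sum_univ_six])
    · exact (pIg h h2 he.n1 he.e4).trans (by simp [MI, Fin.sum_univ_six])
    · exact (pIg h h2 he.n2 he.e5).trans (by simp [MI, Fin.sum_univ_six])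
  have mJ : LinearMap.toMatrixAlgEquiv b ((2 * w + 1) • J) = MJ w := by
    refine toMat b fun j => ?_
    rw [hb, LinearMap.smul_apply]
    fin_cases j
    · exact (pJf h h2 he.n0 he.e3).trans (by simp [MJ, Fin.sum_univ_six]; abel)
    · exact (pJf h h2 he.n1 he.e4).trans (by simp [MJ, Fin.sum_univ_six]; abel)
    · exact (pJf h h2 he.n2 he.e5).trans (by simp [MJ, Fin.sum_univ_six]; abel)
    · exact (pJg h h2 he.n0 he.e3).trans (by simp [MJ, Fin.sum_univ_six])
    · exact (pJg h h2 he.n1 he.e4).trans (by simp [MJ, Fin.sum_univ_six])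
    · exact (pJg h h2 he.n2 he.e5).trans (by simp [MJ, Fin.sum_univ_six])
  have mK : LinearMap.toMatrixAlgEquiv b ((2 * w + 1) • K) = MK w := by
    refine toMat b fun j => ?_
    rw [hb, LinearMap.smul_apply]
    fin_cases j
    · exact (pKf h h2 he.n0 he.e3).trans (by simp [MK, Fin.sum_univ_six]; abel)
    · exact (pKf h h2 he.n1 he.e4).trans (by simp [MK, Fin.sum_univ_six]; abel)
    · exact (pKf h h2 he.n2 he.e5).trans (by simp [MK, Fin.sum_univ_six]; abel)
    · exact (pKg h h2 he.n0 he.e3).trans (by simp [MK, Fin.sum_univ_six])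
    · exact (pKg h h2 he.n1 he.e4).trans (by simp [MK, Fin.sum_univ_six])
    · exact (pKg h h2 he.n2 he.e5).trans (by simp [MK, Fin.sum_univ_six])
  have mB : LinearMap.toMatrixAlgEquiv b B = MB w := by
    refine toMat b fun j => ?_
    rw [hb, he.B j, MB, Finset.sum_eq_single j]
    · rw [Matrix.diagonal_apply_eq]
    · intro i _ hij
      rw [Matrix.diagonal_apply_ne _ hij, zero_smul]
    · intro hj; exact absurd (Finset.mem_univ _) hj
  have mD : LinearMap.toMatrixAlgEquiv b D = MD w δ := by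
    refine toMat b fun j => ?_
    rw [hb]
    fin_cases j
    · exact he.D0.trans (by simp [MD, Fin.sum_univ_six])
    · exact he.D1.trans (by simp [MD, Fin.sum_univ_six])
    · exact (he.D2 h h2).trans (by simp [MD, Fin.sum_univ_six])
    · exact (he.D3 h h2).trans (by simp [MD, Fin.sum_univ_six])
    · exact (he.D4 h h2).trans (by simp [MD, Fin.sum_univ_six])
    · exact (he.D5 h).trans (by simp [MD, Fin.sum_univ_six])
  have mX : LinearMap.toMatrixAlgEquiv b X = MXg p0 p1 p2 m0 m1 m2 c0 c1 c2 d0 d1 d2 := by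
    refine toMat b fun j => ?_
    rw [hb]
    fin_cases j
    · exact hX.x0.trans (by simp [MXg, Fin.sum_univ_six])
    · exact hX.x1.trans (by simp [MXg, Fin.sum_univ_six])
    · exact hX.x2.trans (by simp [MXg, Fin.sum_univ_six])
    · exact hX.x3.trans (by simp [MXg, Fin.sum_univ_six])
    · exact hX.x4.trans (by simp [MXg, Fin.sum_univ_six])
    · exact hX.x5.trans (by simp [MXg, Fin.sum_univ_six])
  -- the inverse of `X`
  have hY : -(D * X * D) = X * X := by rw [h.DX, mul_assoc, h.DD, mul_neg, mul_one, neg_neg]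
  have mY : LinearMap.toMatrixAlgEquiv b (X * X) = MYg w (δ * δ) p0 p1 p2 m0 m1 m2 c0 c1 c2 d0 d1 d2 := by
    rw [← hY, map_neg, map_mul, map_mul, mD, mX]
    exact DXD_eq hδ
  have hu : 2 * w * (δ * δ) = 1 := by linear_combination hδ
  have hXX : MXg p0 p1 p2 m0 m1 m2 c0 c1 c2 d0 d1 d2 * MXg p0 p1 p2 m0 m1 m2 c0 c1 c2 d0 d1 d2 =
      MYg w (δ * δ) p0 p1 p2 m0 m1 m2 c0 c1 c2 d0 d1 d2 := by
    rw [← mX, ← map_mul, mY]
  have hXY : MXg p0 p1 p2 m0 m1 m2 c0 c1 c2 d0 d1 d2 * MYg w (δ * δ) p0 p1 p2 m0 m1 m2 c0 c1 c2 d0 d1 d2 = 1 := by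
    rw [← mX, ← mY, ← map_mul, ← mul_assoc, h.XXX, map_one]
  have hCr : X * K * (X * K) = -(K * (X * X) * (K * (X * X))) := by
    have k1 : (X * K) * (X * K) * ((K * (X * X)) * (K * (X * X))) = 1 := by
      calc (X * K) * (X * K) * ((K * (X * X)) * (K * (X * X)))
          = X * K * X * (K * K) * X * X * K * (X * X) := by noncomm_ring
        _ = X * K * (-(X * X * X)) * K * (X * X) := by rw [h.KK]; noncomm_ring
        _ = X * (-(K * K)) * (X * X) := by rw [h.XXX]; noncomm_ring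
        _ = X * X * X := by rw [h.KK, neg_neg]; noncomm_ring
        _ = 1 := h.XXX
    calc X * K * (X * K) = X * K * (X * K) * ((X * K) * (X * K) * ((K * (X * X)) * (K * (X * X)))) := by
          rw [k1, mul_one]
      _ = (X * K) * (X * K) * (X * K) * (X * K) * ((K * (X * X)) * (K * (X * X))) := by noncomm_ring
      _ = -(K * (X * X) * (K * (X * X))) := by rw [h.XK, neg_one_mul]
  have hC : MXg p0 p1 p2 m0 m1 m2 c0 c1 c2 d0 d1 d2 * MK w * (MXg p0 p1 p2 m0 m1 m2 c0 c1 c2 d0 d1 d2 * MK w) =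
      -(MK w * MYg w (δ * δ) p0 p1 p2 m0 m1 m2 c0 c1 c2 d0 d1 d2 *
        (MK w * MYg w (δ * δ) p0 p1 p2 m0 m1 m2 c0 c1 c2 d0 d1 d2)) := by
    rw [← mX, ← mY, ← mK, map_smul]
    have := congrArg (LinearMap.toMatrixAlgEquiv b) hCr
    simp only [map_neg, map_mul] at this
    simp only [Matrix.mul_smul, Matrix.smul_mul, map_mul]
    rw [this, smul_neg, smul_neg]
  obtain ⟨r1, r2⟩ := solve h.hw hu hz h2 h3 hΔ hXX hXY hC
  refine ⟨b, p2, δ, by rw [hb]; exact he.toEig, r1, hδ, ?_, ?_, ?_, mB, mD, mX.trans r2⟩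
  · rw [← map_smul, mI]
  · rw [← map_smul, mJ]
  · rw [← map_smul, mK]

end frame

end Cfsg.Agent.H830.A6
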