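import Mathlib

/-!
# `6.A₆` in dimension six: relations and joint eigenvectors (helper830)

`Rel w I J K B D X` : the relations of the lifts of `(01)(23)`, `(02)(13)`, `(03)(12)`, `(123)`, `(12)(45)`, `(045)`.
-/

set_option autoImplicit false
set_option linter.unusedSectionVars false

open Module

namespace Cfsg.Agent.H830.A6

variable {F : Type*} [Field F] {V : Type*} [AddCommGroup V] [Module F V]

/-- The relations. -/
structure Rel (w : F) (I J K B D X : End F V) : Prop where
  hw : w * w + w + 1 = 0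
  II : I * I = -1
  JJ : J * J = -1
  IJ : I * J = K
  JI : J * I = -K
  BI : B * I = J * B
  BJ : B * J = K * B
  BBB : B * B * B = 1
  XXX : X * X * X = 1
  BX : B * X = w • (X * B)
  DD : D * D = -1
  DI : D * I = -(J * D)
  DB : D * B = B * B * D
  DX : D * X = X * X * D
  XK : (X * K) * (X * K) * (X * K) * (X * K) = -1

namespace Rel

variable {w : F} {I J K B D X : End F V}

theorem KI (h : Rel w I J K B D X) : K * I = J := by
  rw [← h.IJ, mul_assoc, h.JI, ← h.IJ, mul_neg, ← mul_assoc, h.II, neg_mul, one_mul, neg_neg]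

theorem IK (h : Rel w I J K B D X) : I * K = -J := by
  rw [← h.IJ, ← mul_assoc, h.II, neg_mul, one_mul]

theorem KJ (h : Rel w I J K B D X) : K * J = -I := by
  rw [← h.IJ, mul_assoc, h.JJ, mul_neg, mul_one]

theorem JK (h : Rel w I J K B D X) : J * K = I := by
  rw [← h.IJ, ← mul_assoc, h.JI, neg_mul, h.KJ, neg_neg]

theorem KK (h : Rel w I J K B D X) : K * K = -1 := by
  nth_rewrite 1 [← h.IJ]
  rw [mul_assoc, h.JK, h.II]

theorem BK (h : Rel w I J K B D X) : B * K = I * B := by
  rw [← h.IJ, ← mul_assoc, h.BI, mul_assoc, h.BJ, ← mul_assoc, h.JK]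

theorem DJ (h : Rel w I J K B D X) : D * J = -(I * D) := by
  have h1 : D * (J * D) = I := by
    have h2 : D * (D * I) = -(D * (J * D)) := by rw [h.DI, mul_neg]
    rw [← mul_assoc, h.DD, neg_mul, one_mul, neg_inj] at h2
    exact h2.symm
  have h2 : D * (J * D) * D = -(D * J) := by
    rw [mul_assoc, mul_assoc, h.DD, mul_neg, mul_neg, mul_one]
  rw [h1] at h2
  rw [h2, neg_neg]

theorem DK (h : Rel w I J K B D X) : D * K = -(K * D) := by
  rw [← h.IJ, ← mul_assoc, h.DI, neg_mul, mul_assoc, h.DJ, mul_neg, neg_neg, ← mul_assoc, h.JI, h.IJ, neg_mul]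

/-- `N = I + J + K` -/
theorem NN (h : Rel w I J K B D X) : (I + J + K) * (I + J + K) = -3 := by
  have : (I + J + K) * (I + J + K) = I * I + J * J + K * K + (I * J + J * I) + (J * K + K * J) + (K * I + I * K) := by
    noncomm_ring
  rw [this, h.II, h.JJ, h.KK, h.IJ, h.JI, h.JK, h.KJ, h.KI, h.IK]
  norm_num

theorem BN (h : Rel w I J K B D X) : B * (I + J + K) = (I + J + K) * B := by
  rw [mul_add, mul_add, h.BI, h.BJ, h.BK]; noncomm_ring

theorem DN (h : Rel w I J K B D X) : D * (I + J + K) = -((I + J + K) * D) := by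
  rw [mul_add, mul_add, h.DI, h.DJ, h.DK]; noncomm_ring

theorem BBI (h : Rel w I J K B D X) : B * B * I = K * (B * B) := by
  rw [mul_assoc, h.BI, ← mul_assoc, h.BJ, mul_assoc]

theorem BBJ (h : Rel w I J K B D X) : B * B * J = I * (B * B) := by
  rw [mul_assoc, h.BJ, ← mul_assoc, h.BK, mul_assoc]

theorem BBK (h : Rel w I J K B D X) : B * B * K = J * (B * B) := by
  rw [mul_assoc, h.BK, ← mul_assoc, h.BI, mul_assoc]

theorem BBX (h : Rel w I J K B D X) : B * B * X = (w * w) • (X * (B * B)) := by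
  rw [mul_assoc, h.BX, mul_smul_comm, ← mul_assoc, h.BX, smul_mul_assoc, smul_smul, mul_assoc]

theorem w3 (h : Rel w I J K B D X) : w * w * w = 1 := by linear_combination (w - 1) * h.hw

theorem w_ne_one (h : Rel w I J K B D X) (h3 : (3 : F) ≠ 0) : w ≠ 1 := by
  intro h1
  apply h3
  have := h.hw
  rw [h1] at this
  linear_combination this

theorem w_ne_zero (h : Rel w I J K B D X) : w ≠ 0 := by
  intro h1
  have := h.hw
  rw [h1] at this
  norm_num at this

theorem th (h : Rel w I J K B D X) : (2 * w + 1) * (2 * w + 1) = -3 := by linear_combination 4 * h.hw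

local notation "τ" => LinearMap.trace F V

theorem conj_zero {Y Z : End F V} (h2 : (2 : F) ≠ 0) (hY : Y * Y = -1) (hYZ : Y * Z * Y = Z) : τ Z = 0 := by
  have h1 : τ Z = - τ Z := by
    conv_lhs => rw [← hYZ]
    rw [LinearMap.trace_mul_comm, ← mul_assoc, hY, neg_mul, one_mul, map_neg]
  have h3 : (2 : F) * τ Z = 0 := by linear_combination h1
  exact (mul_eq_zero.1 h3).resolve_left h2

theorem tI (h : Rel w I J K B D X) (h2 : (2 : F) ≠ 0) : τ I = 0 :=
  conj_zero h2 h.JJ (by rw [h.JI, neg_mul, h.KJ, neg_neg])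

theorem tJ (h : Rel w I J K B D X) (h2 : (2 : F) ≠ 0) : τ J = 0 :=
  conj_zero h2 h.II (by rw [h.IJ, h.KI])

theorem tK (h : Rel w I J K B D X) (h2 : (2 : F) ≠ 0) : τ K = 0 :=
  conj_zero h2 h.II (by rw [h.IK, neg_mul, h.JI, neg_neg])

theorem tB (h : Rel w I J K B D X) (h3 : (3 : F) ≠ 0) : τ B = 0 := by
  have h1 : τ B = w * τ B := by
    have e : B = B * X * (X * X) := by rw [mul_assoc, ← mul_assoc X X X, h.XXX, mul_one]
    conv_lhs => rw [e]
    rw [h.BX, smul_mul_assoc, map_smul, smul_eq_mul, mul_assoc, LinearMap.trace_mul_comm, mul_assoc, h.XXX, mul_one]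
  have h2 : (1 - w) * τ B = 0 := by linear_combination h1
  rcases mul_eq_zero.1 h2 with h4 | h4
  · exact absurd (by linear_combination -h4) (h.w_ne_one h3)
  · exact h4

theorem tBB (h : Rel w I J K B D X) (h3 : (3 : F) ≠ 0) : τ (B * B) = 0 := by
  have h1 : τ (B * B) = (w * w) * τ (B * B) := by
    have e : B * B = B * B * X * (X * X) := by rw [mul_assoc (B * B), ← mul_assoc X X X, h.XXX, mul_one]
    conv_lhs => rw [e]
    rw [h.BBX, smul_mul_assoc, map_smul, smul_eq_mul, mul_assoc X, LinearMap.trace_mul_comm, mul_assoc (B * B), h.XXX,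
      mul_one]
  have h2 : (1 - w * w) * τ (B * B) = 0 := by linear_combination h1
  rcases mul_eq_zero.1 h2 with h4 | h4
  · exfalso
    apply h.w_ne_one h3
    linear_combination w * h4 + h.w3
  · exact h4

theorem tIB (h : Rel w I J K B D X) (h3 : (3 : F) ≠ 0) : τ (I * B) = 0 := by
  have e : I * B = J * B * J := by rw [mul_assoc, h.BJ, ← mul_assoc, h.JK]
  rw [e, LinearMap.trace_mul_comm, ← mul_assoc, h.JJ, neg_mul, one_mul, map_neg, h.tB h3, neg_zero]

theorem tJB (h : Rel w I J K B D X) (h3 : (3 : F) ≠ 0) : τ (J * B) = 0 := by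
  have e : J * B = K * B * K := by rw [mul_assoc, h.BK, ← mul_assoc, h.KI]
  rw [e, LinearMap.trace_mul_comm, ← mul_assoc, h.KK, neg_mul, one_mul, map_neg, h.tB h3, neg_zero]

theorem tKB (h : Rel w I J K B D X) (h3 : (3 : F) ≠ 0) : τ (K * B) = 0 := by
  have e : K * B = I * B * I := by rw [mul_assoc, h.BI, ← mul_assoc, h.IJ]
  rw [e, LinearMap.trace_mul_comm, ← mul_assoc, h.II, neg_mul, one_mul, map_neg, h.tB h3, neg_zero]

theorem tIBB (h : Rel w I J K B D X) (h3 : (3 : F) ≠ 0) : τ (I * (B * B)) = 0 := by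
  have e : I * (B * B) = -(K * (B * B) * K) := by rw [mul_assoc, h.BBK, ← mul_assoc K, h.KJ, neg_mul, neg_neg]
  rw [e, map_neg, LinearMap.trace_mul_comm, ← mul_assoc, h.KK, neg_mul, one_mul, map_neg, h.tBB h3, neg_zero, neg_zero]

theorem tJBB (h : Rel w I J K B D X) (h3 : (3 : F) ≠ 0) : τ (J * (B * B)) = 0 := by
  have e : J * (B * B) = -(I * (B * B) * I) := by rw [mul_assoc, h.BBI, ← mul_assoc I, h.IK, neg_mul, neg_neg]
  rw [e, map_neg, LinearMap.trace_mul_comm, ← mul_assoc, h.II, neg_mul, one_mul, map_neg, h.tBB h3, neg_zero, neg_zero]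

theorem tKBB (h : Rel w I J K B D X) (h3 : (3 : F) ≠ 0) : τ (K * (B * B)) = 0 := by
  have e : K * (B * B) = -(J * (B * B) * J) := by rw [mul_assoc, h.BBJ, ← mul_assoc J, h.JI, neg_mul, neg_neg]
  rw [e, map_neg, LinearMap.trace_mul_comm, ← mul_assoc, h.JJ, neg_mul, one_mul, map_neg, h.tBB h3, neg_zero, neg_zero]

/-- joint eigenvectors exist -/
theorem exists_eigen (h : Rel w I J K B D X) (h2 : (2 : F) ≠ 0) (h3 : (3 : F) ≠ 0) (h6 : finrank F V = 6)
    {ν l l' : F} (hν : ν * ν = -3) (hl : l * l' = 1) (hl3 : l' * l' * l' = 1) :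
    ∃ f : V, f ≠ 0 ∧ (I + J + K) f = ν • f ∧ B f = l • f := by
  have : FiniteDimensional F V := FiniteDimensional.of_finrank_pos (by rw [h6]; norm_num)
  obtain ⟨N, hN⟩ : ∃ N : End F V, N = I + J + K := ⟨_, rfl⟩
  have hNN : N * N = -3 := by rw [hN, h.NN]
  have hBN' : B * N = N * B := by rw [hN, h.BN]
  rw [← hN]
  let Pr : End F V := (ν • (1 : End F V) + N) * (1 + l' • B + (l' * l') • (B * B))
  have hNp : N * (ν • (1 : End F V) + N) = ν • (ν • (1 : End F V) + N) := by
    rw [mul_add, mul_smul_comm, mul_one, hNN, smul_add, smul_smul, hν, add_comm]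
    congr 1
    rw [neg_smul, ← Algebra.algebraMap_eq_smul_one, map_ofNat]
  have hBp : B * (1 + l' • B + (l' * l') • (B * B)) = l • (1 + l' • B + (l' * l') • (B * B)) := by
    rw [mul_add, mul_add, mul_one, mul_smul_comm, mul_smul_comm, ← mul_assoc, h.BBB, smul_add, smul_add, smul_smul,
      smul_smul, hl, one_smul, show l * (l' * l') = l' by rw [← mul_assoc, hl, one_mul],
      show l = l' * l' by
        calc l = l * (l' * l' * l') := by rw [hl3, mul_one]
          _ = (l * l') * (l' * l') := by ring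
          _ = l' * l' := by rw [hl, one_mul]]
    abel
  have hBN : B * (ν • (1 : End F V) + N) = (ν • (1 : End F V) + N) * B := by
    rw [mul_add, add_mul, mul_smul_comm, smul_mul_assoc, mul_one, one_mul, hBN']
  have htr : τ Pr = 6 * ν := by
    have e : Pr = ν • (1 : End F V) + (ν * l') • B + (ν * (l' * l')) • (B * B) + I + J + K + l' • (I * B) + l' • (J * B)
        + l' • (K * B) + (l' * l') • (I * (B * B)) + (l' * l') • (J * (B * B)) + (l' * l') • (K * (B * B)) := by
      change (ν • (1 : End F V) + N) * (1 + l' • B + (l' * l') • (B * B)) = _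
      rw [hN]
      simp only [add_mul, mul_add, smul_mul_assoc, mul_smul_comm, mul_one, one_mul, smul_smul, smul_add]
      rw [mul_comm l' ν, mul_comm (l' * l') ν]
      abel
    rw [e]
    simp only [map_add, map_smul, h.tI h2, h.tJ h2, h.tK h2, h.tB h3, h.tBB h3, h.tIB h3, h.tJB h3, h.tKB h3, h.tIBB h3,
      h.tJBB h3, h.tKBB h3, smul_zero, add_zero, LinearMap.trace_one, h6]
    rw [smul_eq_mul]
    push_cast
    ring
  have hν0 : ν ≠ 0 := by
    rintro rfl
    apply h3
    linear_combination hν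
  have hne : Pr ≠ 0 := by
    intro h0
    rw [h0, map_zero] at htr
    have h6' : (6 : F) ≠ 0 := by
      have : (6 : F) = 2 * 3 := by norm_num
      rw [this]
      exact mul_ne_zero h2 h3
    exact mul_ne_zero h6' hν0 htr.symm
  obtain ⟨u, hu⟩ : ∃ u, Pr u ≠ 0 := by
    by_contra hcon
    push Not at hcon
    exact hne (LinearMap.ext hcon)
  refine ⟨Pr u, hu, ?_, ?_⟩
  · have : N * Pr = ν • Pr := by
      change N * ((ν • (1 : End F V) + N) * (1 + l' • B + (l' * l') • (B * B))) = _
      rw [← mul_assoc, hNp, smul_mul_assoc]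
    exact LinearMap.congr_fun this u
  · have : B * Pr = l • Pr := by
      change B * ((ν • (1 : End F V) + N) * (1 + l' • B + (l' * l') • (B * B))) = _
      rw [← mul_assoc, hBN, mul_assoc, hBp, mul_smul_comm]
    exact LinearMap.congr_fun this u

end Rel

end Cfsg.Agent.H830.A6
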