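import Cfsg.Agent.H830.A6.Rel

/-!
# `6.A₆` in dimension six: the frame (helper830)
-/

set_option autoImplicit false
set_option linter.unusedSectionVars false

open Module

namespace Cfsg.Agent.H830.A6

variable {F : Type*} [Field F] {V : Type*} [AddCommGroup V] [Module F V]

namespace Rel

variable {w : F} {I J K B D X : End F V}

theorem ap {S T : End F V} (v : V) : (S * T) v = S (T v) := rfl

/-- `J` on an eigenvector of `N` with eigenvalue `2w+1` -/
theorem J_plus (h : Rel w I J K B D X) (h2 : (2 : F) ≠ 0) {f : V} (hf : (I + J + K) f = (2 * w + 1) • f) :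
    J f = w • f + (w * w) • I f := by
  have h1 : I f + J f + K f = (2 * w + 1) • f := hf
  have h3 : -f + K f + -J f = (2 * w + 1) • I f := by
    have e := congrArg I h1
    rw [map_add, map_add, map_smul, ← ap, ← ap, ← ap, h.II, h.IJ, h.IK] at e
    exact e
  have h4 : (2 : F) • (J f - (w • f + (w * w) • I f)) = 0 := by
    have e1 : (2 : F) • (J f - (w • f + (w * w) • I f)) = (I f + J f + K f - (2 * w + 1) • f) -
        (-f + K f + -J f - (2 * w + 1) • I f) + (-2 * (w * w + w + 1)) • I f := by module
    rw [e1, h1, h3, h.hw]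
    simp
  rcases smul_eq_zero.1 h4 with h5 | h5
  · exact absurd h5 h2
  · exact sub_eq_zero.1 h5

theorem K_plus (h : Rel w I J K B D X) (h2 : (2 : F) ≠ 0) {f : V} (hf : (I + J + K) f = (2 * w + 1) • f) :
    K f = -(w * w) • f + w • I f := by
  have h1 : I f + J f + K f = (2 * w + 1) • f := hf
  rw [h.J_plus h2 hf] at h1
  have : K f = (I f + (w • f + (w * w) • I f) + K f) - (w • f + (w * w) • I f) - I f := by abel
  rw [this, h1]
  have e : (2 * w + 1) • f - (w • f + (w * w) • I f) - I f = -(w * w) • f + w • I f + (w * w + w + 1) • f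
      - (w * w + w + 1) • I f := by module
  rw [e, h.hw]
  simp

theorem J_minus (h : Rel w I J K B D X) (h2 : (2 : F) ≠ 0) {f : V} (hf : (I + J + K) f = -(2 * w + 1) • f) :
    J f = (w * w) • f + w • I f := by
  have h1 : I f + J f + K f = -(2 * w + 1) • f := hf
  have h3 : -f + K f + -J f = -(2 * w + 1) • I f := by
    have e := congrArg I h1
    rw [map_add, map_add, map_smul, ← ap, ← ap, ← ap, h.II, h.IJ, h.IK] at e
    exact e
  have h4 : (2 : F) • (J f - ((w * w) • f + w • I f)) = 0 := by
    have e1 : (2 : F) • (J f - ((w * w) • f + w • I f)) = (I f + J f + K f - -(2 * w + 1) • f) -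
        (-f + K f + -J f - -(2 * w + 1) • I f) - (2 * (w * w + w + 1)) • f := by module
    rw [e1, h1, h3, h.hw]
    simp
  rcases smul_eq_zero.1 h4 with h5 | h5
  · exact absurd h5 h2
  · exact sub_eq_zero.1 h5

theorem K_minus (h : Rel w I J K B D X) (h2 : (2 : F) ≠ 0) {f : V} (hf : (I + J + K) f = -(2 * w + 1) • f) :
    K f = -w • f + (w * w) • I f := by
  have h1 : I f + J f + K f = -(2 * w + 1) • f := hf
  rw [h.J_minus h2 hf] at h1
  have : K f = (I f + ((w * w) • f + w • I f) + K f) - ((w * w) • f + w • I f) - I f := by abel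
  rw [this, h1]
  have e : -(2 * w + 1) • f - ((w * w) • f + w • I f) - I f = -w • f + (w * w) • I f - (w * w + w + 1) • f
      - (w * w + w + 1) • I f := by module
  rw [e, h.hw]
  simp

/-- the vector `f' = f + θ I f` -/
theorem N_prime (h : Rel w I J K B D X) (h2 : (2 : F) ≠ 0) {f : V} (hf : (I + J + K) f = (2 * w + 1) • f) :
    (I + J + K) (f + (2 * w + 1) • I f) = -(2 * w + 1) • (f + (2 * w + 1) • I f) := by
  have hJ := h.J_plus h2 hf
  have hK := h.K_plus h2 hf
  have e : (I + J + K) (I f) = -f - K f + J f := by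
    have : (I + J + K) (I f) = (I * I) f + (J * I) f + (K * I) f := rfl
    rw [this, h.II, h.JI, h.KI, LinearMap.neg_apply, LinearMap.neg_apply, Module.End.one_apply]
    abel
  rw [map_add, map_smul, hf, e, hK, hJ]
  have e2 : (2 * w + 1) • f + (2 * w + 1) • (-f - (-(w * w) • f + w • I f) + (w • f + (w * w) • I f)) =
      -(2 * w + 1) • (f + (2 * w + 1) • I f) + ((2 * w + 1) * (w * w + w + 1)) • f +
        ((2 * w + 1) * (w * w + w + 1)) • I f := by module
  rw [e2, h.hw]
  simp

theorem B_prime (h : Rel w I J K B D X) (h2 : (2 : F) ≠ 0) {f : V} (hf : (I + J + K) f = (2 * w + 1) • f) {l : F}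
    (hB : B f = l • f) : B (f + (2 * w + 1) • I f) = (l * (w * w)) • (f + (2 * w + 1) • I f) := by
  have hJ := h.J_plus h2 hf
  have e : B (I f) = l • J f := by
    have : B (I f) = (B * I) f := rfl
    rw [this, h.BI, ap, hB, map_smul]
  rw [map_add, map_smul, hB, e, hJ]
  have e2 : l • f + (2 * w + 1) • l • (w • f + (w * w) • I f) = (l * (w * w)) • (f + (2 * w + 1) • I f) +
      (l * (w * w + w + 1)) • f := by module
  rw [e2, h.hw]
  simp

/-- the vector `g⁺` with `(g⁺)' = 2 g` -/
theorem N_plus (h : Rel w I J K B D X) (h2 : (2 : F) ≠ 0) {g : V} (hg : (I + J + K) g = -(2 * w + 1) • g) :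
    (I + J + K) ((2 * w + 1) • I g - g) = (2 * w + 1) • ((2 * w + 1) • I g - g) := by
  have hJ := h.J_minus h2 hg
  have hK := h.K_minus h2 hg
  have e : (I + J + K) (I g) = -g - K g + J g := by
    have : (I + J + K) (I g) = (I * I) g + (J * I) g + (K * I) g := rfl
    rw [this, h.II, h.JI, h.KI, LinearMap.neg_apply, LinearMap.neg_apply, Module.End.one_apply]
    abel
  rw [map_sub, map_smul, hg, e, hK, hJ]
  have e2 : (2 * w + 1) • (-g - (-w • g + (w * w) • I g) + ((w * w) • g + w • I g)) - -(2 * w + 1) • g =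
      (2 * w + 1) • ((2 * w + 1) • I g - g) + ((2 * w + 1) * (w * w + w + 1)) • g -
        ((2 * w + 1) * (w * w + w + 1)) • I g := by module
  rw [e2, h.hw]
  simp

theorem B_plus (h : Rel w I J K B D X) (h2 : (2 : F) ≠ 0) {g : V} (hg : (I + J + K) g = -(2 * w + 1) • g) {l : F}
    (hB : B g = l • g) : B ((2 * w + 1) • I g - g) = (l * w) • ((2 * w + 1) • I g - g) := by
  have hJ := h.J_minus h2 hg
  have e : B (I g) = l • J g := by
    have : B (I g) = (B * I) g := rfl
    rw [this, h.BI, ap, hB, map_smul]
  rw [map_sub, map_smul, hB, e, hJ]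
  have e2 : (2 * w + 1) • l • ((w * w) • g + w • I g) - l • g = (l * w) • ((2 * w + 1) • I g - g) +
      (l * (2 * w - 1) * (w * w + w + 1)) • g := by module
  rw [e2, h.hw]
  simp

theorem prime_plus (h : Rel w I J K B D X) (g : V) :
    ((2 * w + 1) • I g - g) + (2 * w + 1) • I ((2 * w + 1) • I g - g) = (2 : F) • g := by
  have e : I (I g) = -g := by
    have : I (I g) = (I * I) g := rfl
    rw [this, h.II]; rfl
  rw [map_sub, map_smul, e]
  have e2 : (2 * w + 1) • I g - g + (2 * w + 1) • ((2 * w + 1) • -g - I g) = (2 : F) • g -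
      (4 * (w * w + w + 1)) • g := by module
  rw [e2, h.hw]
  simp

/-- `D` on joint eigenvectors -/
theorem D_N (h : Rel w I J K B D X) {f : V} {ν : F} (hf : (I + J + K) f = ν • f) : (I + J + K) (D f) = -ν • D f := by
  have e : (I + J + K) (D f) = -((D * (I + J + K)) f) := by rw [h.DN]; simp
  rw [e, ap, hf, map_smul, neg_smul]

theorem D_B (h : Rel w I J K B D X) {f : V} {l : F} (hf : B f = l • f) : B (D f) = (l * l) • D f := by
  have e : B (D f) = (D * (B * B)) f := by
    have e1 : D * (B * B) = B * D := by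
      rw [← mul_assoc, h.DB]
      calc B * B * D * B = B * B * (D * B) := by rw [mul_assoc]
        _ = B * B * (B * B * D) := by rw [h.DB]
        _ = (B * B * B) * B * D := by noncomm_ring
        _ = B * D := by rw [h.BBB, one_mul]
    rw [e1]; rfl
  rw [e, ap, ap, hf, map_smul, hf, smul_smul, map_smul]

end Rel

/-! ### joint eigenvectors are independent -/

/-- eigenvalues of `N` -/
def nuv (w : F) : Fin 6 → F := ![2 * w + 1, 2 * w + 1, 2 * w + 1, -(2 * w + 1), -(2 * w + 1), -(2 * w + 1)]

/-- eigenvalues of `B` -/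
def lav (w : F) : Fin 6 → F := ![w * w, 1, w, w, w * w, 1]

/-- six joint eigenvectors -/
structure Eig (w : F) (I J K B : End F V) (e : Fin 6 → V) : Prop where
  ne : ∀ i, e i ≠ 0
  N : ∀ i, (I + J + K) (e i) = nuv w i • e i
  B : ∀ i, B (e i) = lav w i • e i

theorem mu_inj {w : F} (hw : w * w + w + 1 = 0) (h2 : (2 : F) ≠ 0) (h3 : (3 : F) ≠ 0) :
    Function.Injective (fun i => lav w i * nuv w i) := by
  have hw0 : w ≠ 0 := by rintro rfl; norm_num at hw
  have ht : (2 * w + 1) ≠ 0 := by
    intro h
    apply h3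
    linear_combination 4 * hw - (2 * w + 1) * h
  have hw1 : w - 1 ≠ 0 := by
    intro h
    apply h3
    linear_combination hw - (w + 2) * h
  have a1 := mul_ne_zero ht hw1
  have a2 := mul_ne_zero a1 hw0
  have b1 := mul_ne_zero ht h2
  have b2 := mul_ne_zero b1 hw0
  have b3 := mul_ne_zero b2 hw0
  have c2 := mul_ne_zero ht hw0
  have c3 := mul_ne_zero c2 hw0
  have key : ∀ i j : Fin 6, i < j → lav w i * nuv w i ≠ lav w j * nuv w j := by
    intro i j hij h
    fin_cases i <;> fin_cases j <;> first
      | exact absurd hij (by decide)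
      | skip
    · have h' : w * w * (2 * w + 1) = 1 * (2 * w + 1) := h
      exact (mul_ne_zero a2 hw0) (by linear_combination -h' + (2 * w + 1) * (w - 1) * hw)
    · have h' : w * w * (2 * w + 1) = w * (2 * w + 1) := h
      exact a2 (by linear_combination h')
    · have h' : w * w * (2 * w + 1) = w * (-(2 * w + 1)) := h
      exact ht (by linear_combination -h' + (2 * w + 1) * hw)
    · have h' : w * w * (2 * w + 1) = w * w * (-(2 * w + 1)) := h
      exact b3 (by linear_combination h')
    · have h' : w * w * (2 * w + 1) = 1 * (-(2 * w + 1)) := h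
      exact c2 (by linear_combination -h' + (2 * w + 1) * hw)
    · have h' : 1 * (2 * w + 1) = w * (2 * w + 1) := h
      exact a1 (by linear_combination -h')
    · have h' : 1 * (2 * w + 1) = w * (-(2 * w + 1)) := h
      exact c3 (by linear_combination -h' + (2 * w + 1) * hw)
    · have h' : 1 * (2 * w + 1) = w * w * (-(2 * w + 1)) := h
      exact c2 (by linear_combination -h' + (2 * w + 1) * hw)
    · have h' : 1 * (2 * w + 1) = 1 * (-(2 * w + 1)) := h
      exact b1 (by linear_combination h')
    · have h' : w * (2 * w + 1) = w * (-(2 * w + 1)) := h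
      exact b2 (by linear_combination h')
    · have h' : w * (2 * w + 1) = w * w * (-(2 * w + 1)) := h
      exact ht (by linear_combination -h' + (2 * w + 1) * hw)
    · have h' : w * (2 * w + 1) = 1 * (-(2 * w + 1)) := h
      exact c3 (by linear_combination -h' + (2 * w + 1) * hw)
    · have h' : w * (-(2 * w + 1)) = w * w * (-(2 * w + 1)) := h
      exact a2 (by linear_combination h')
    · have h' : w * (-(2 * w + 1)) = 1 * (-(2 * w + 1)) := h
      exact a1 (by linear_combination -h')
    · have h' : w * w * (-(2 * w + 1)) = 1 * (-(2 * w + 1)) := h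
      exact (mul_ne_zero a2 hw0) (by linear_combination h' + (2 * w + 1) * (w - 1) * hw)
  intro i j hij
  rcases lt_trichotomy i j with h | h | h
  · exact absurd hij (key i j h)
  · exact h
  · exact absurd hij.symm (key j i h)

end Cfsg.Agent.H830.A6
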